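import Groth.Agent.GIT36.HM.Pts
import Groth.Agent.Hopf34.Fin

/-!
# A linear action as a subgroup of `GL_n`
-/

set_option autoImplicit false

noncomputable section

open TensorProduct CoordGrp HopfRep

namespace Groth.Agent.GIT36.HM

universe u

variable {k : Type u} [Field k] {A : Type u} [CommRing A] [Algebra k A]

/-- independent vectors carry a matrix corepresentation -/
theorem isRep_of_indep {C : Type u} [CommRing C] [Bialgebra k C] {V : Type u} [AddCommGroup V] [Module k V]
    [HopfRep.Comod k C V] {κ : Type*} [Fintype κ] [DecidableEq κ] (x : κ → V) (π : κ → V →ₗ[k] k)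
    (hπ : ∀ l i, π l (x i) = if l = i then 1 else 0) (c : κ → κ → C)
    (hc : ∀ j, Comod.coact (k := k) (A := C) (x j) = ∑ i, x i ⊗ₜ[k] c i j) :
    Comod33.Mat.IsRep (k := k) c where
  comul l j := by
    have h := LinearMap.congr_fun (Comod.coassoc (k := k) (A := C) (V := V)) (x j)
    simp only [LinearMap.comp_apply, LinearEquiv.coe_coe, hc, map_sum, LinearMap.rTensor_tmul,
      TensorProduct.sum_tmul, TensorProduct.assoc_tmul, LinearMap.lTensor_tmul] at h
    have h2 := congrArg ((TensorProduct.lid k (C ⊗[k] C)).toLinearMap ∘ₗ (π l).rTensor (C ⊗[k] C)) h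
    simp only [LinearMap.comp_apply, LinearEquiv.coe_coe, map_sum, LinearMap.rTensor_tmul,
      TensorProduct.lid_tmul, hπ, ite_smul, one_smul, zero_smul, Finset.sum_ite_eq,
      Finset.mem_univ, if_true] at h2
    exact h2.symm
  counit l j := by
    have h := LinearMap.congr_fun (Comod.counit_comp (k := k) (A := C) (V := V)) (x j)
    simp only [LinearMap.comp_apply, LinearMap.flip_apply, TensorProduct.mk_apply, hc, map_sum,
      LinearMap.lTensor_tmul] at h
    have h2 := congrArg ((TensorProduct.lid k k).toLinearMap ∘ₗ (π l).rTensor k) h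
    simp only [LinearMap.comp_apply, LinearEquiv.coe_coe, map_sum, LinearMap.rTensor_tmul,
      TensorProduct.lid_tmul, hπ, smul_eq_mul, ite_mul, one_mul, zero_mul, Finset.sum_ite_eq,
      Finset.mem_univ, if_true] at h2
    exact h2

theorem exists_embedding {A : Type u} [CommRing A] [HopfAlgebra k A] [Algebra.FiniteType k A]
    {ι : Type u} [Fintype ι] [HopfRep.Comod k A (MvPolynomial ι k)] (m : ι → ι → A)
    (hm : ∀ i, HopfRep.Comod.coact (k := k) (A := A) (MvPolynomial.X i : MvPolynomial ι k) =
      ∑ j, (MvPolynomial.X j : MvPolynomial ι k) ⊗ₜ[k] m i j) :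
    ∃ (n : ℕ) (e : ι → Fin n) (Φ : GLn n k →ₐc[k] A), Function.Injective e ∧ Function.Surjective Φ ∧
      (∀ i j, Φ (GLn.X (e j) (e i)) = m i j) ∧
      (∀ a i, a ∉ Set.range e → Φ (GLn.X a (e i)) = 0 ∧ Φ (GLn.X (e i) a) = 0) := by
  classical
  have h1 : Comod33.Mat.IsRep (k := k) (fun j i => m i j) :=
    isRep_of_indep (fun i => (MvPolynomial.X i : MvPolynomial ι k))
      (fun l => MvPolynomial.lcoeff k (Finsupp.single l 1))
      (fun l i => by
        simp [MvPolynomial.coeff_X', eq_comm, Finsupp.single_left_inj]) _ hm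
  obtain ⟨s, hs⟩ := Algebra.FiniteType.out (R := k) (A := A)
  obtain ⟨W, hWfin, hW, hsW, -⟩ :=
    Hopf34.exists_finite_isSubcomod (k := k) (A := A) (V := A) (s : Set A) s.finite_toSet
  let d := Module.finrank k W
  let b : Module.Basis (Fin d) k W := Module.finBasis k W
  have hex : ∀ j, ∃ c : Fin d → A,
      CoalgebraStruct.comul (R := k) ((b j : W) : A) = ∑ i, ((b i : W) : A) ⊗ₜ[k] c i := by
    intro j
    obtain ⟨y, hy⟩ := hW _ (b j).2
    obtain ⟨c, rfl⟩ : ∃ c : Fin d → A, y = ∑ i, (b i) ⊗ₜ[k] c i := by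
      clear hy
      induction y using TensorProduct.induction_on with
      | zero => exact ⟨0, by simp⟩
      | tmul w a =>
        refine ⟨fun i => b.repr w i • a, ?_⟩
        conv_lhs => rw [← b.sum_repr w, TensorProduct.sum_tmul]
        simp [TensorProduct.smul_tmul]
      | add p q hp hq =>
        obtain ⟨c, rfl⟩ := hp
        obtain ⟨c', rfl⟩ := hq
        exact ⟨c + c', by simp [TensorProduct.tmul_add, Finset.sum_add_distrib]⟩
    refine ⟨c, ?_⟩
    show Comod.coact (k := k) (A := A) ((b j : W) : A) = _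
    rw [← hy, map_sum]
    rfl
  choose cw hcw using hex
  choose π hπ using fun l : Fin d => LinearMap.exists_extend (b.coord l)
  have h2 : Comod33.Mat.IsRep (k := k) (fun i j => cw j i) :=
    isRep_of_indep (C := A) (fun i => ((b i : W) : A)) π (fun l i => by
      rw [show π l ((b i : W) : A) = b.coord l (b i) from LinearMap.congr_fun (hπ l) (b i),
        Module.Basis.coord_apply, b.repr_self, Finsupp.single_apply]
      simp [eq_comm]) _ hcw
  let c : ι ⊕ Fin d → ι ⊕ Fin d → A := fun p q => Sum.elim
    (fun l => Sum.elim (fun i => m i l) (fun _ => (0 : A)) q)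
    (fun a => Sum.elim (fun _ => (0 : A)) (fun b' => cw b' a) q) p
  have hc : Comod33.Mat.IsRep (k := k) c := by
    refine ⟨fun p q => ?_, fun p q => ?_⟩
    · rcases p with p | p <;> rcases q with q | q <;> rw [Fintype.sum_sum_type]
      · simpa [c] using h1.comul p q
      · simp [c]
      · simp [c]
      · simpa [c] using h2.comul p q
    · rcases p with p | p <;> rcases q with q | q
      · simpa [c] using h1.counit p q
      · simp [c]
      · simp [c]
      · simpa [c] using h2.counit p q
  let n := Fintype.card (ι ⊕ Fin d)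
  let σ : Fin n ≃ ι ⊕ Fin d := (Fintype.equivFin _).symm
  let M : Matrix (Fin n) (Fin n) A := Matrix.of fun a a' => c (σ a) (σ a')
  have hM : IsUnit M := by
    have hone : M * M.map (HopfAlgebra.antipode k) = 1 := by
      ext a a'
      have h := HopfAlgebra.mul_antipode_lTensor_comul_apply (R := k) (M a a')
      rw [show Coalgebra.comul (R := k) (M a a') = ∑ l, c (σ a) l ⊗ₜ[k] c l (σ a') from hc.comul _ _,
        show Coalgebra.counit (R := k) (M a a') = if σ a = σ a' then 1 else 0 from hc.counit _ _,
        map_sum, map_sum, ← σ.sum_comp] at h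
      rw [Matrix.mul_apply, Matrix.one_apply]
      simpa [M, apply_ite (algebraMap k A)] using h
    exact IsUnit.of_mul_eq_one _ hone
  let Φ₀ : GLn n k →ₐ[k] A := ev k hM.unit
  have hX : ∀ a a', Φ₀ (GLn.X a a') = c (σ a) (σ a') := fun a a' => ev_X _ _ _
  let Φ : GLn n k →ₐc[k] A := BialgHom.ofAlgHom Φ₀
    (hom_ext fun a a' => by
      simp only [AlgHom.comp_apply, Bialgebra.counitAlgHom_apply, hX]
      refine (hc.counit _ _).trans ?_
      show _ = CoalgebraStruct.counit (R := k) (GLn.X a a')
      rw [GLn.counit_X]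
      simp)
    (hom_ext fun a a' => by
      simp only [AlgHom.comp_apply, Bialgebra.comulAlgHom_apply, hX]
      refine Eq.trans ?_ (hc.comul _ _).symm
      show _ = _
      rw [show Coalgebra.comul (R := k) (GLn.X a a' : GLn n k) = ∑ l, GLn.X a l ⊗ₜ[k] GLn.X l a' from
        GLn.comul_X a a', map_sum, ← σ.sum_comp]
      simp [hX])
  refine ⟨n, fun i => σ.symm (Sum.inl i), Φ, σ.symm.injective.comp Sum.inl_injective, ?_, fun i j => ?_,
    fun a i ha => ?_⟩
  · have hall : ∀ w : W, (w : A) ∈ Φ₀.range := by
      intro w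
      rw [← b.sum_repr w, Submodule.coe_sum]
      refine sum_mem fun j _ => ?_
      rw [Submodule.coe_smul]
      refine Subalgebra.smul_mem _ ?_ _
      have h : ((b j : W) : A) = ∑ i, CoalgebraStruct.counit (R := k) ((b i : W) : A) • cw j i := by
        have h0 := Coalgebra.rTensor_counit_comul (R := k) ((b j : W) : A)
        rw [hcw, map_sum] at h0
        have h3 := congrArg (TensorProduct.lid k A) h0
        simpa using h3.symm
      rw [h]
      exact sum_mem fun i _ => Subalgebra.smul_mem _
        (show cw j i ∈ Φ₀.range from (AlgHom.mem_range _).2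
          ⟨GLn.X (σ.symm (Sum.inr i)) (σ.symm (Sum.inr j)), (hX _ _).trans (by simp [c])⟩) _
    have : (⊤ : Subalgebra k A) ≤ Φ₀.range := by
      rw [← hs, Algebra.adjoin_le_iff]
      exact fun g hg => hall ⟨g, hsW hg⟩
    exact fun a => this (Algebra.mem_top (R := k) (x := a))
  · exact (hX _ _).trans (by simp [c])
  · rcases h : σ a with l | l
    · exact absurd ⟨l, by simp only [← h, σ.symm_apply_apply]⟩ ha
    · exact ⟨(hX _ _).trans (by simp [c, h]), (hX _ _).trans (by simp [c, h])⟩

end Groth.Agent.GIT36.HM
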