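import Groth.Agent.Config36.Farkas

/-!
# Replacing weights in an ordered group by integral weights with the same signs
-/

set_option autoImplicit false

open Finset

namespace Groth.Agent.GIT36.HM

universe u

theorem exists_int_weights {n : ℕ} {Γ : Type u} [AddCommGroup Γ] [LinearOrder Γ] [IsOrderedAddMonoid Γ]
    (γ : Fin n → Γ) (S S' : Finset (Fin n → ℤ))
    (hS : ∀ x ∈ S, 0 ≤ ∑ a, x a • γ a) (hS' : ∀ x ∈ S', 0 < ∑ a, x a • γ a) :
    ∃ r : Fin n → ℤ, (∀ x ∈ S, 0 ≤ ∑ a, x a * r a) ∧ ∀ x ∈ S', 0 < ∑ a, x a * r a := by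
  classical
  let q : (Fin n → ℤ) → Fin n → ℚ := fun x a => x a
  have key : ∀ x₀ ∈ S', ∃ y : (Fin n → ℚ) →ₗ[ℚ] ℚ,
      (∀ x ∈ S ∪ S', 0 ≤ y (q x)) ∧ 0 < y (q x₀) := by
    intro x₀ hx₀
    obtain ⟨y, hy, hy0⟩ := Config36.farkas (F := ℚ) (S ∪ S') q (-q x₀) (by
      rintro ⟨c, hc, hsum⟩
      obtain ⟨D, hD⟩ := IsLocalization.exist_integer_multiples (nonZeroDivisors ℤ) (S ∪ S') c
      choose! z hz using hD
      have hDz : (D : ℤ) ≠ 0 := nonZeroDivisors.ne_zero D.2
      have hzq : ∀ x ∈ S ∪ S', (z x : ℚ) = (D : ℤ) * c x := fun x hx => by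
        simpa [zsmul_eq_mul] using hz x hx
      -- multiply by the square to have a positive multiplier
      have hvec : ∀ a, ∑ x ∈ S ∪ S', (D : ℤ) * z x * x a + (D : ℤ) * (D : ℤ) * x₀ a = 0 := by
        intro a
        have h : ((∑ x ∈ S ∪ S', (D : ℤ) * z x * x a + (D : ℤ) * (D : ℤ) * x₀ a : ℤ) : ℚ) = 0 := by
          have h2 := congrFun hsum a
          simp only [Finset.sum_apply, Pi.smul_apply, smul_eq_mul, Pi.neg_apply, q] at h2
          push_cast
          rw [Finset.sum_congr rfl fun x hx => show ((D : ℤ) : ℚ) * (z x : ℚ) * (x a : ℚ)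
            = ((D : ℤ) : ℚ) * ((D : ℤ) : ℚ) * (c x * (x a : ℚ)) from by rw [hzq x hx]; ring,
            ← Finset.mul_sum, h2]
          ring
        exact_mod_cast h
      have hzero : ∑ x ∈ S ∪ S', ((D : ℤ) * z x) • (∑ a, x a • γ a) +
          ((D : ℤ) * (D : ℤ)) • (∑ a, x₀ a • γ a) = 0 := by
        simp only [Finset.smul_sum, smul_smul]
        rw [Finset.sum_comm, ← Finset.sum_add_distrib]
        refine Finset.sum_eq_zero fun a _ => ?_
        rw [← Finset.sum_smul, ← add_smul, hvec a, zero_smul]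
      have hnonneg : 0 ≤ ∑ x ∈ S ∪ S', ((D : ℤ) * z x) • (∑ a, x a • γ a) := by
        refine Finset.sum_nonneg fun x hx => ?_
        refine zsmul_nonneg ?_ ?_
        · rcases Finset.mem_union.1 hx with h | h
          · exact hS x h
          · exact (hS' x h).le
        · have : (0 : ℚ) ≤ (((D : ℤ) * z x : ℤ) : ℚ) := by
            push_cast
            rw [hzq x hx, ← mul_assoc]
            exact mul_nonneg (mul_self_nonneg _) (hc x hx)
          exact_mod_cast this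
      have hpos : 0 < ((D : ℤ) * (D : ℤ)) • (∑ a, x₀ a • γ a) :=
        zsmul_pos (hS' x₀ hx₀) (mul_self_pos.2 hDz)
      exact (add_pos_of_nonneg_of_pos hnonneg hpos).ne' hzero)
    exact ⟨y, hy, by simpa using hy0⟩
  choose! y hy hy0 using key
  let Y : (Fin n → ℚ) →ₗ[ℚ] ℚ := ∑ x₀ ∈ S', y x₀
  obtain ⟨D, hD⟩ := IsLocalization.exist_integer_multiples (nonZeroDivisors ℤ) Finset.univ
    fun a : Fin n => Y (Pi.single a 1)
  choose! r hr using hD
  have hrq : ∀ x : Fin n → ℤ, ((∑ a, x a * ((D : ℤ) * r a) : ℤ) : ℚ) = ((D : ℤ) : ℚ) * ((D : ℤ) : ℚ) * Y (q x) := by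
    intro x
    have e : q x = ∑ a, (x a : ℚ) • Pi.single a (1 : ℚ) := by
      funext b
      simp [q, Finset.sum_apply, Pi.single_apply]
    rw [e, map_sum, Finset.mul_sum]
    push_cast
    refine Finset.sum_congr rfl fun a _ => ?_
    rw [map_smul, smul_eq_mul, show (r a : ℚ) = ((D : ℤ) : ℚ) * Y (Pi.single a 1) from by
      simpa [zsmul_eq_mul] using hr a (Finset.mem_univ a)]
    ring
  have hDz : ((D : ℤ) : ℚ) ≠ 0 := by exact_mod_cast nonZeroDivisors.ne_zero D.2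
  refine ⟨fun a => (D : ℤ) * r a, fun x hx => ?_, fun x hx => ?_⟩
  · have : (0 : ℚ) ≤ ((∑ a, x a * ((D : ℤ) * r a) : ℤ) : ℚ) := by
      rw [hrq, LinearMap.sum_apply]
      exact mul_nonneg (mul_self_nonneg _)
        (Finset.sum_nonneg fun x₀ h₀ => hy x₀ h₀ x (Finset.mem_union_left _ hx))
    exact_mod_cast this
  · have : (0 : ℚ) < ((∑ a, x a * ((D : ℤ) * r a) : ℤ) : ℚ) := by
      rw [hrq, LinearMap.sum_apply]
      exact mul_pos (mul_self_pos.2 hDz) (Finset.sum_pos'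
        (fun x₀ h₀ => hy x₀ h₀ x (Finset.mem_union_right _ hx)) ⟨x, hx, hy0 x hx⟩)
    exact_mod_cast this

end Groth.Agent.GIT36.HM
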