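import Groth.Agent.GIT36.HM.Destab
import Groth.Agent.GIT36.HM.Setup
import Groth.Agent.GIT36.Place
import Groth.Agent.Hopf35.Stable
import Groth.Agent.Hopf35.ReyUnique
import Groth.Agent.Comod33.CartierReduced
import Groth.Prelude.Def_SGA3t2b

/-!
# The Hilbert-Mumford criterion on affine space
-/

set_option autoImplicit false

noncomputable section

open TensorProduct LaurentPolynomial CoordGrp Matrix

namespace Groth.Agent.GIT36.HM

universe u

variable {k : Type u} [Field k] [IsAlgClosed k] [CharZero k]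
  {A : Type u} [CommRing A] [HopfAlgebra k A] [Algebra.FiniteType k A]
  {ι : Type u} [Fintype ι] [HopfRep.Comod k A (MvPolynomial ι k)] [GLin.IsCoactAlg k A (MvPolynomial ι k)]

/-- the point of the group at a parameter -/
def lamPt (lam : A →ₐc[k] k[T;T⁻¹]) (s : kˣ) : A →ₐ[k] k :=
  (evalT s).comp (lam : A →ₐ[k] k[T;T⁻¹])

theorem lamPt_mul (lam : A →ₐc[k] k[T;T⁻¹]) (s t : kˣ) :
    (WithConv.toConv (lamPt lam s) * WithConv.toConv (lamPt lam t)).ofConv = lamPt lam (s * t) := by
  refine AlgHom.ext fun a => ?_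
  rw [AlgHom.convMul_apply]
  have h : (Algebra.TensorProduct.lift (evalT (k := k) s) (evalT t) fun _ _ => Commute.all _ _).comp
      (Bialgebra.comulAlgHom k k[T;T⁻¹]) = evalT (s * t) := by
    refine AlgHom.ext fun z => ?_
    induction z using LaurentPolynomial.induction_on' with
    | add p q hp hq => rw [map_add, map_add, hp, hq]
    | C_mul_T m c =>
      rw [map_mul, map_mul, LaurentPolynomial.C_eq_algebraMap, AlgHom.commutes, AlgHom.commutes,
        AlgHom.comp_apply, comulAlgHom_T, Algebra.TensorProduct.lift_tmul, evalT_T, evalT_T, evalT_T, mul_zpow,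
        Units.val_mul]
  show _ = evalT (s * t) (lam a)
  rw [← h, AlgHom.comp_apply, Bialgebra.comulAlgHom_apply, ← CoalgHomClass.map_comp_comul_apply lam a]
  induction Coalgebra.comul (R := k) a using TensorProduct.induction_on with
  | zero => simp
  | tmul p q => simp [lamPt]
  | add p q hp hq => simp only [map_add, hp, hq]

theorem evalT_lamOrbit (lam : A →ₐc[k] k[T;T⁻¹]) {R : Type u} [CommRing R] [Algebra k R] [HopfRep.Comod k A R]
    [GLin.IsCoactAlg k A R] (x : R →ₐ[k] k) (s : kˣ) (f : R) :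
    evalT s (GLin.lamOrbit k A lam x f) = GLin.actPt k (lamPt lam s) x f := rfl

/-- a limit of a one-parameter subgroup is fixed by it -/
theorem actPt_limit (lam : A →ₐc[k] k[T;T⁻¹]) (x : MvPolynomial ι k →ₐ[k] k)
    (h : MvPolynomial ι k →ₐ[k] Polynomial k)
    (hh : (Polynomial.toLaurentAlg (R := k)).comp h = GLin.lamOrbit k A lam x) (s : kˣ) :
    GLin.actPt k (lamPt lam s) ((Polynomial.aeval (0 : k)).comp h) = (Polynomial.aeval (0 : k)).comp h := by
  refine AlgHom.ext fun f => ?_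
  rw [Hopf35.Stable.actPt_apply, AlgHom.comp_apply, AlgHom.comp_apply]
  set f' := HopfRep.Comod.act k A (MvPolynomial ι k) (lamPt lam s) f
  have hval : ∀ (u : kˣ) (p : MvPolynomial ι k), (h p).eval (u : k) = GLin.actPt k (lamPt lam u) x p := by
    intro u p
    rw [← evalT_lamOrbit, ← hh]
    show _ = LaurentPolynomial.eval₂ _ _ (Polynomial.toLaurent (h p))
    rw [LaurentPolynomial.eval₂_toLaurent]
    rfl
  have hsub : Polynomial.X * (h f' - (h f).comp (Polynomial.C (s : k) * Polynomial.X)) = 0 := by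
    refine Polynomial.funext fun c => ?_
    rw [Polynomial.eval_mul, Polynomial.eval_X, Polynomial.eval_zero]
    by_cases hc : c = 0
    · rw [hc, zero_mul]
    refine mul_eq_zero_of_right _ ?_
    rw [Polynomial.eval_sub, Polynomial.eval_comp, Polynomial.eval_mul, Polynomial.eval_C, Polynomial.eval_X,
      sub_eq_zero, show c = ((Units.mk0 c hc : kˣ) : k) from rfl, ← Units.val_mul, hval, hval, mul_comm s,
      ← lamPt_mul, ← Hopf35.Stable.actPt_actPt]
    simp only [WithConv.ofConv_toConv, Hopf35.Stable.actPt_apply, f']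
  have := (mul_eq_zero.1 hsub).resolve_left Polynomial.X_ne_zero
  rw [sub_eq_zero] at this
  rw [this, Polynomial.aeval_def, Polynomial.eval₂_at_zero, Polynomial.aeval_def, Polynomial.eval₂_at_zero]
  simp [Polynomial.coeff_zero_eq_eval_zero]

theorem isTrivial_of_finite (lam : A →ₐc[k] k[T;T⁻¹]) (h : (Set.range (lamPt lam)).Finite) :
    SGA3t2b.IsTrivialBialgHom lam := by
  classical
  intro a
  let vals : Finset k := h.toFinset.image fun g => g a
  have hz : ∏ c ∈ vals, (lam a - algebraMap k k[T;T⁻¹] c) = 0 := by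
    refine eq_zero_of_evalT _ fun s => ?_
    rw [map_prod]
    refine Finset.prod_eq_zero (Finset.mem_image.2 ⟨lamPt lam s, h.mem_toFinset.2 ⟨s, rfl⟩, rfl⟩) ?_
    rw [map_sub, AlgHom.commutes]
    exact sub_self _
  obtain ⟨c, -, hc⟩ := Finset.prod_eq_zero_iff.1 hz
  rw [sub_eq_zero] at hc
  have h1 := CoalgHomClass.counit_comp_apply lam a
  rw [hc] at h1
  have h2 : Coalgebra.counit (R := k) (algebraMap k k[T;T⁻¹] c) = c := by
    rw [← Bialgebra.counitAlgHom_apply, AlgHom.commutes]
    rfl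
  rw [h2] at h1
  rw [hc, h1]

variable (m : ι → ι → A)
  (hm : ∀ i, HopfRep.Comod.coact (k := k) (A := A) (MvPolynomial.X i : MvPolynomial ι k) =
      ∑ j, (MvPolynomial.X j : MvPolynomial ι k) ⊗ₜ[k] m i j)

include hm in
theorem orbitHom_X (v : ι → k) (i : ι) :
    GLin.orbitHom k A (GLin.vecPt k ι v) (MvPolynomial.X i) = ∑ j, algebraMap k A (v j) * m i j := by
  show (Algebra.TensorProduct.lid k A) (Algebra.TensorProduct.map (GLin.vecPt k ι v) (AlgHom.id k A)
    (HopfRep.Comod.coact (k := k) (A := A) (MvPolynomial.X i : MvPolynomial ι k))) = _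
  rw [hm]
  simp [GLin.vecPt, Algebra.smul_def]

include hm in
/-- the orbit map in the coordinates of the embedding -/
theorem vecMul_repMat {n : ℕ} (e : ι → Fin n) (he : Function.Injective e) (Φ : GLn n k →ₐc[k] A)
    (hΦ1 : ∀ i j, Φ (GLn.X (e j) (e i)) = m i j)
    (hΦ2 : ∀ a i, a ∉ Set.range e → Φ (GLn.X a (e i)) = 0 ∧ Φ (GLn.X (e i) a) = 0)
    (v : ι → k) {B : Type u} [CommRing B] [Algebra k B] (g : A →ₐ[k] B) :
    (∀ i, ((fun a => algebraMap k B (Function.extend e v 0 a)) ᵥ* (mapU (g : A →+* B) (repMat Φ)).1) (e i) =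
        g (GLin.orbitHom k A (GLin.vecPt k ι v) (MvPolynomial.X i))) ∧
      ∀ a, a ∉ Set.range e →
        ((fun a => algebraMap k B (Function.extend e v 0 a)) ᵥ* (mapU (g : A →+* B) (repMat Φ)).1) a = 0 := by
  classical
  refine ⟨fun i => ?_, fun a ha => ?_⟩
  · rw [orbitHom_X m hm, map_sum]
    show ∑ a, algebraMap k B (Function.extend e v 0 a) * g (Φ (GLn.X a (e i))) = _
    rw [← Finset.sum_subset (s₁ := Finset.univ.image e) (Finset.subset_univ _) fun a _ ha => by
      rw [Function.extend_apply' _ _ _ fun ⟨j, hj⟩ => ha (Finset.mem_image.2 ⟨j, Finset.mem_univ j, hj⟩)]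
      simp, Finset.sum_image fun x _ y _ h => he h]
    refine Finset.sum_congr rfl fun j _ => ?_
    rw [he.extend_apply, hΦ1, map_mul, AlgHom.commutes]
  · show ∑ b, algebraMap k B (Function.extend e v 0 b) * g (Φ (GLn.X b a)) = 0
    refine Finset.sum_eq_zero fun b _ => ?_
    by_cases hb : b ∈ Set.range e
    · obtain ⟨i, rfl⟩ := hb
      rw [(hΦ2 a i ha).2, map_zero, mul_zero]
    · rw [Function.extend_apply' _ _ _ fun ⟨j, hj⟩ => hb ⟨j, hj⟩]
      simp

include hm in
/-- the two faces of the destabilisation -/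
theorem exists_lam_of_place (hG : HopfRep.IsLinearlyReductive k A) {L : Type u} [Field L] [Algebra k L]
    (V : ValuationSubring L) (hk : ∀ a, algebraMap k L a ∈ V) (res : V →+* k)
    (hres : RingHom.ker res = IsLocalRing.maximalIdeal V) (hresk : ∀ a, res ⟨algebraMap k L a, hk a⟩ = a)
    (φ : A →ₐ[k] L) (v : ι → k)
    (hv : ∀ i, φ (GLin.orbitHom k A (GLin.vecPt k ι v) (MvPolynomial.X i)) ∈ V) :
    ∃ lam : A →ₐc[k] k[T;T⁻¹],
      GLin.HasLimit k A lam (GLin.vecPt k ι v) ∧
      ((∀ i, res ⟨_, hv i⟩ = 0) →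
        GLin.IsLimit k A lam (GLin.vecPt k ι v) (GLin.vecPt k ι fun _ => (0 : k))) ∧
      ((∃ a, φ a ∉ V) → ¬ SGA3t2b.IsTrivialBialgHom lam) := by
  classical
  obtain ⟨n, e, Φ, he, hΦ, hΦ1, hΦ2⟩ := exists_embedding m hm
  set w := Function.extend e v 0 with hw
  have hcoord := vecMul_repMat m hm e he Φ hΦ1 hΦ2 v φ
  have hv' : ∀ a, ((fun a => algebraMap k L (w a)) ᵥ* (mapU (φ : A →+* L) (repMat Φ)).1) a ∈ V := by
    intro a
    by_cases ha : a ∈ Set.range e
    · obtain ⟨i, rfl⟩ := ha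
      rw [hcoord.1]
      exact hv i
    · rw [hcoord.2 a ha]
      exact V.zero_mem
  obtain ⟨lam, r, H, hlam, h0, hpos, hr⟩ := exists_destab Φ V hk res hres hresk hG hΦ φ w hv'
  have hphi : ∀ i l, (Hopf35.MuLimit.phi lam v i).coeff l =
      ∑ a, if r a = l then (w ᵥ* (H⁻¹).1) a * H.1 a (e i) else 0 := by
    intro i l
    have h := (vecMul_repMat m hm e he Φ hΦ1 hΦ2 v (lam : A →ₐ[k] k[T;T⁻¹])).1 i
    rw [hlam] at h
    show ((lam : A →ₐ[k] k[T;T⁻¹]) (GLin.orbitHom k A (GLin.vecPt k ι v) (MvPolynomial.X i))).coeff l = _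
    rw [← h, Units.val_mul, Units.val_mul, ← Matrix.vecMul_vecMul, ← Matrix.vecMul_vecMul]
    show (∑ a, (((fun a => algebraMap k k[T;T⁻¹] (w a)) ᵥ* (H⁻¹).1.map (algebraMap k k[T;T⁻¹])) ᵥ*
      Matrix.diagonal (fun a => (T (r a) : k[T;T⁻¹]))) a * algebraMap k k[T;T⁻¹] (H.1 a (e i))).coeff l = _
    rw [AddMonoidAlgebra.coeff_sum, Finsupp.coe_finsetSum, Finset.sum_apply]
    refine Finset.sum_congr rfl fun a _ => ?_
    rw [Matrix.vecMul_diagonal,
      show ((fun a => algebraMap k k[T;T⁻¹] (w a)) ᵥ* (H⁻¹).1.map (algebraMap k k[T;T⁻¹])) a =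
        algebraMap k k[T;T⁻¹] ((w ᵥ* (H⁻¹).1) a) from (RingHom.map_vecMul _ _ _ a).symm,
      mul_right_comm, ← map_mul, ← LaurentPolynomial.C_eq_algebraMap, ← single_eq_C_mul_T,
      AddMonoidAlgebra.coeff_single, Finsupp.single_apply]
  have hvanish : ∀ i l, (∀ a, (w ᵥ* (H⁻¹).1) a ≠ 0 → r a ≠ l) → (Hopf35.MuLimit.phi lam v i).coeff l = 0 := by
    intro i l hl
    rw [hphi]
    refine Finset.sum_eq_zero fun a _ => ?_
    split_ifs with h
    · by_cases hwa : (w ᵥ* (H⁻¹).1) a = 0
      · rw [hwa, zero_mul]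
      · exact absurd h (hl a hwa)
    · rfl
  refine ⟨lam, ?_, fun hz => ?_, fun ⟨a, ha⟩ htriv => ha ?_⟩
  · rw [Hopf35.MuLimit.hasLimit_iff]
    intro i l hl
    refine hvanish i l fun a hwa => ?_
    have := h0 a hwa
    omega
  · rw [Hopf35.MuLimit.isLimit_zero_iff]
    intro i l hl
    refine hvanish i l fun a hwa => ?_
    have := hpos (fun b hb => by
      by_cases hbr : b ∈ Set.range e
      · obtain ⟨j, rfl⟩ := hbr
        exact (congrArg res (Subtype.ext (hcoord.1 j))).trans (hz j)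
      · exact (congrArg res (Subtype.ext (hcoord.2 b hbr))).trans (map_zero res)) a hwa
    omega
  · refine hr (funext fun b => ?_) a
    have h1 : mapU ((lam : A →ₐ[k] k[T;T⁻¹]) : A →+* k[T;T⁻¹]) (repMat Φ) = 1 := by
      refine Units.ext (Matrix.ext fun p q => ?_)
      show lam (Φ (GLn.X p q)) = _
      rw [htriv, show CoalgebraStruct.counit (R := k) (Φ (GLn.X p q)) = CoalgebraStruct.counit (R := k) (GLn.X p q)
        from CoalgHomClass.counit_comp_apply Φ _, GLn.counit_X, Units.val_one, Matrix.one_apply]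
      split_ifs <;> simp
    rw [hlam, cst, cst, mapU_inv] at h1
    have h2 : (dg (k := k) r)⁻¹ = 1 := by
      have := congrArg (fun z => mapU (algebraMap k k[T;T⁻¹]) H * z * (mapU (algebraMap k k[T;T⁻¹]) H)⁻¹) h1
      simpa [mul_assoc] using this
    have h3 : (T (r b) : k[T;T⁻¹]) = 1 := by
      have := congrArg (fun z : (Matrix (Fin n) (Fin n) k[T;T⁻¹])ˣ => z.1 b b) h2
      exact (Matrix.diagonal_apply_eq (fun i => (T (r i) : k[T;T⁻¹])) b).symm.trans (this.trans (by simp))
    have h4 := congrArg (fun z : k[T;T⁻¹] => z.coeff 0) h3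
    simp only [← T_zero (R := k), LaurentPolynomial.T, AddMonoidAlgebra.coeff_single, Finsupp.single_apply,
      if_true] at h4
    by_contra hne
    rw [if_neg (fun h : r b = 0 => hne h)] at h4
    exact zero_ne_one h4

/-- **semistability** -/
theorem isSemistableVec_iff (hG : HopfRep.IsLinearlyReductive k A) (hlin : GLin.IsLinear k A ι)
    (v : ι → k) (hv : v ≠ 0) :
    GLin.IsSemistableVec k A v ↔
      ∀ (lam : A →ₐc[k] k[T;T⁻¹]) (m : ℤ), GLin.IsMu k A lam v m → 0 ≤ m := by
  classical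
  constructor
  · intro hss lam μ hμ
    by_contra hneg
    apply hss
    obtain ⟨h, hh, hh0⟩ := ((Hopf35.MuLimit.limit_trichotomy lam v hv).2.2).2 ⟨μ, hμ, by omega⟩
    intro F hF d hd hhom
    have h1 : h F = Polynomial.C (MvPolynomial.eval v F) := by
      refine Polynomial.toLaurent_injective ?_
      rw [Polynomial.toLaurent_C, ← Polynomial.toLaurentAlg_apply, ← AlgHom.comp_apply, hh,
        LaurentPolynomial.C_eq_algebraMap]
      show lam (GLin.orbitHom k A (GLin.vecPt k ι v) F) = _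
      rw [LinRed34.orbitHom_invariant _ hF, AlgHomClass.commutes]
      simp [GLin.vecPt, MvPolynomial.coe_aeval_eq_eval]
    have h2 := DFunLike.congr_fun hh0 F
    rw [AlgHom.comp_apply, h1, Polynomial.aeval_C] at h2
    rw [GLin.vecPt, MvPolynomial.aeval_zero', MvPolynomial.constantCoeff_eq,
      hhom.coeff_eq_zero (by simp; omega)] at h2
    simpa using h2
  · intro hμ
    by_contra hns
    rw [Hopf35.ReyUnique.isSemistableVec_iff hG hlin, not_not] at hns
    choose m hm using hlin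
    set ψ₀ := GLin.orbitHom k A (GLin.vecPt k ι v)
    set yv : MvPolynomial ι k →ₐ[k] k := GLin.vecPt k ι (fun _ => (0 : k))
    haveI : (RingHom.ker yv).IsPrime := RingHom.ker_isPrime _
    obtain ⟨𝔮, h𝔮, h𝔮le⟩ :=
      Ideal.exists_minimalPrimes_le (I := RingHom.ker ψ₀.toRingHom) (J := RingHom.ker yv) hns
    have h𝔮' : 𝔮 ∈ ((⊥ : Ideal A).comap ψ₀.toRingHom).minimalPrimes := by
      rwa [← RingHom.ker_eq_comap_bot]
    obtain ⟨P, hP, -, hPq⟩ := Ideal.exists_comap_eq_of_mem_minimalPrimes ψ₀.toRingHom 𝔮 h𝔮'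
    haveI := hP
    let L := FractionRing (A ⧸ P)
    let τ : A →ₐ[k] L := (IsScalarTower.toAlgHom k (A ⧸ P) L).comp (Ideal.Quotient.mkₐ k P)
    have hker : RingHom.ker (τ.comp ψ₀) ≤ RingHom.ker yv := by
      intro f hf
      apply h𝔮le
      rw [← hPq, Ideal.mem_comap]
      refine Ideal.Quotient.eq_zero_iff_mem.1 (IsFractionRing.injective (A ⧸ P) L ?_)
      rw [map_zero]
      exact hf
    obtain ⟨V, hk, hmem, res, hres, hresk, hresb⟩ := exists_place (τ.comp ψ₀) yv hker
    obtain ⟨lam, -, hlim, -⟩ := exists_lam_of_place m hm hG V hk res hres hresk τ v fun i => hmem _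
    have hz := hlim fun i => (hresb _ (hmem _)).trans (by simp [yv, GLin.vecPt])
    obtain ⟨μ, hμ', hneg⟩ := ((Hopf35.MuLimit.limit_trichotomy lam v hv).2.2).1 hz
    exact absurd (hμ lam μ hμ') (not_le.2 hneg)

/-- **stability** -/
theorem isStableVec_iff (hG : HopfRep.IsLinearlyReductive k A) (hlin : GLin.IsLinear k A ι)
    (v : ι → k) (hv : v ≠ 0) :
    GLin.IsStableVec k A v ↔
      ∀ lam : A →ₐc[k] k[T;T⁻¹], ¬ SGA3t2b.IsTrivialBialgHom lam →
        ∀ m : ℤ, GLin.IsMu k A lam v m → 0 < m := by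
  classical
  haveI : IsReduced A := Comod33.Aug.isReduced_of_charZero (k := k)
  constructor
  · intro hst lam hnt μ hμ
    by_contra hle
    apply hnt
    have hlim : GLin.HasLimit k A lam (GLin.vecPt k ι v) := by
      by_contra hno
      obtain ⟨μ', hμ', hpos⟩ := ((Hopf35.MuLimit.limit_trichotomy lam v hv).1).1 hno
      rw [(Hopf35.MuLimit.existsUnique_isMu lam v hv).unique hμ' hμ] at hpos
      omega
    obtain ⟨h, hh⟩ := hlim
    let y := (Polynomial.aeval (0 : k)).comp h
    have hcl : GLin.InOrbitClosure k A (GLin.vecPt k ι v) y := by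
      intro f hf
      have h0 : Polynomial.toLaurent (h f) = 0 := by
        rw [← Polynomial.toLaurentAlg_apply, ← AlgHom.comp_apply, hh]
        show lam (GLin.orbitHom k A (GLin.vecPt k ι v) f) = 0
        rw [show GLin.orbitHom k A (GLin.vecPt k ι v) f = 0 from hf, map_zero]
      show y f = 0
      rw [show y f = Polynomial.aeval (0 : k) (h f) from rfl, Polynomial.toLaurent_eq_zero.1 h0, map_zero]
    have hfin := (Hopf35.Stable.isClosedOrbit_iff.1 hst.1 y hcl).hasFiniteStab hst.2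
    rw [Hopf35.Stable.hasFiniteStab_iff] at hfin
    refine isTrivial_of_finite lam (hfin.subset ?_)
    rintro _ ⟨s, rfl⟩ f
    rw [← Hopf35.Stable.actPt_apply, actPt_limit lam _ h hh s]
  · intro hμ
    by_contra hns
    have hns' : ¬ (GLin.IsClosedOrbit k A (GLin.vecPt k ι v) ∧
        Module.Finite k (A ⧸ GLin.stabIdeal k A (GLin.vecPt k ι v))) := hns
    choose m hm using hlin
    suffices ∃ (L : Type u) (_ : Field L) (_ : Algebra k L) (V : ValuationSubring L)
        (hk : ∀ a, algebraMap k L a ∈ V) (res : V →+* k),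
        RingHom.ker res = IsLocalRing.maximalIdeal V ∧ (∀ a, res ⟨algebraMap k L a, hk a⟩ = a) ∧
          ∃ φ : A →ₐ[k] L, (∀ i, φ (GLin.orbitHom k A (GLin.vecPt k ι v) (MvPolynomial.X i)) ∈ V) ∧
            ∃ a, φ a ∉ V by
      obtain ⟨L, _, _, V, hk, res, hres, hresk, φ, hφ, hne⟩ := this
      obtain ⟨lam, hlim, -, hnt⟩ := exists_lam_of_place m hm hG V hk res hres hresk φ v hφ
      obtain ⟨μ, hμ', -⟩ := Hopf35.MuLimit.existsUnique_isMu lam v hv
      exact ((Hopf35.MuLimit.limit_trichotomy lam v hv).1.2 ⟨μ, hμ', hμ lam (hnt hne) μ hμ'⟩) hlim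
    by_cases hcl : GLin.IsClosedOrbit k A (GLin.vecPt k ι v)
    · have hnf : ¬ Module.Finite k (A ⧸ GLin.stabIdeal k A (GLin.vecPt k ι v)) := fun h => hns' ⟨hcl, h⟩
      set I := GLin.stabIdeal k A (GLin.vecPt k ι v) with hI
      haveI : Algebra.FiniteType k (A ⧸ I) :=
        Algebra.FiniteType.of_surjective (Ideal.Quotient.mkₐ k I) Ideal.Quotient.mk_surjective
      obtain ⟨t, ht⟩ : ∃ t : A ⧸ I, ¬ IsIntegral k t := by
        by_contra hall
        push Not at hall
        haveI : Algebra.IsIntegral k (A ⧸ I) := ⟨hall⟩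
        exact hnf Algebra.IsIntegral.finite
      obtain ⟨K, _, φ₀, O, hO, htO⟩ : ∃ (K : Type u) (_ : Field K) (φ₀ : A ⧸ I →+* K) (O : ValuationSubring K),
          (∀ b : k, φ₀ (algebraMap k _ b) ∈ O) ∧ φ₀ t ∉ O := by
        by_contra hno
        push Not at hno
        exact ht (isIntegralElem_of_forall_valuationSubring (algebraMap k (A ⧸ I)) t
          fun K _ φ O hO => hno K inferInstance φ O hO)
      letI : Algebra k K := (φ₀.comp (algebraMap k (A ⧸ I))).toAlgebra
      let φ₁ : A ⧸ I →ₐ[k] K := { φ₀ with commutes' := fun _ => rfl }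
      have ht0 : φ₀ t ≠ 0 := fun h => htO (h ▸ O.zero_mem)
      let ψ : Polynomial k →ₐ[k] K := Polynomial.aeval (φ₀ t)⁻¹
      have hψ : Function.Injective ψ := by
        refine transcendental_iff_injective.1 fun halg => htO ?_
        obtain ⟨c, hc⟩ := (IsAlgClosed.algebraMap_bijective_of_isIntegral (k := k)
          (K := (integralClosure k K))).2 ⟨(φ₀ t)⁻¹, halg.isIntegral⟩
        have hc' : algebraMap k K c = (φ₀ t)⁻¹ := congrArg Subtype.val hc
        rw [← inv_inv (φ₀ t), ← hc', ← map_inv₀]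
        exact hO c⁻¹
      obtain ⟨V, hk, hmem, res, hres, hresk, hresb⟩ := exists_place ψ (Polynomial.aeval (0 : k))
        (by rw [(RingHom.injective_iff_ker_eq_bot _).1 hψ]; exact bot_le)
      refine ⟨K, inferInstance, inferInstance, V, hk, res, hres, hresk, φ₁.comp (Ideal.Quotient.mkₐ k I),
        fun i => ?_, ?_⟩
      · have : Ideal.Quotient.mk I (GLin.orbitHom k A (GLin.vecPt k ι v) (MvPolynomial.X i)) =
            algebraMap k (A ⧸ I) (v i) := by
          rw [← Ideal.Quotient.mk_algebraMap, Ideal.Quotient.eq, ← (GLin.orbitHom k A (GLin.vecPt k ι v)).commutes, ← map_sub]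
          refine Ideal.mem_map_of_mem _ ?_
          simp [RingHom.mem_ker, GLin.vecPt]
        show φ₀ (Ideal.Quotient.mk I _) ∈ V
        rw [this]
        exact hk (v i)
      · obtain ⟨a, rfl⟩ := Ideal.Quotient.mk_surjective t
        refine ⟨a, fun hmemV => ?_⟩
        have hX := hresb Polynomial.X (hmem _)
        have hX' : res ⟨ψ Polynomial.X, hmem _⟩ = 0 := hX.trans (Polynomial.aeval_X _)
        have h1 : res ((⟨_, hmem Polynomial.X⟩ : V) * ⟨_, hmemV⟩) = res 1 := by
          congr 1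
          apply Subtype.ext
          show ψ Polynomial.X * φ₀ (Ideal.Quotient.mk I a) = 1
          simp [ψ, inv_mul_cancel₀ ht0]
        rw [map_mul, map_one, hX', zero_mul] at h1
        exact zero_ne_one h1
    · rw [Hopf35.Stable.isClosedOrbit_iff] at hcl
      push Not at hcl
      obtain ⟨z, hz, hnot⟩ := hcl
      set ψ₀ := GLin.orbitHom k A (GLin.vecPt k ι v)
      haveI : (RingHom.ker z).IsPrime := RingHom.ker_isPrime _
      obtain ⟨𝔮, h𝔮, h𝔮le⟩ :=
        Ideal.exists_minimalPrimes_le (I := RingHom.ker ψ₀.toRingHom) (J := RingHom.ker z) hz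
      have h𝔮' : 𝔮 ∈ ((⊥ : Ideal A).comap ψ₀.toRingHom).minimalPrimes := by
        rwa [← RingHom.ker_eq_comap_bot]
      obtain ⟨P, hP, -, hPq⟩ := Ideal.exists_comap_eq_of_mem_minimalPrimes ψ₀.toRingHom 𝔮 h𝔮'
      haveI := hP
      let L := FractionRing (A ⧸ P)
      let τ : A →ₐ[k] L := (IsScalarTower.toAlgHom k (A ⧸ P) L).comp (Ideal.Quotient.mkₐ k P)
      have hker : RingHom.ker (τ.comp ψ₀) ≤ RingHom.ker z := by
        intro f hf
        apply h𝔮le
        rw [← hPq, Ideal.mem_comap]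
        refine Ideal.Quotient.eq_zero_iff_mem.1 (IsFractionRing.injective (A ⧸ P) L ?_)
        rw [map_zero]
        exact hf
      obtain ⟨V, hk, hmem, res, hres, hresk, hresb⟩ := exists_place (τ.comp ψ₀) z hker
      refine ⟨L, inferInstance, inferInstance, V, hk, res, hres, hresk, τ, fun i => hmem _, ?_⟩
      by_contra hall
      push Not at hall
      let g : A →ₐ[k] k :=
        { res.comp ((τ : A →+* L).codRestrict V.toSubring hall) with
          commutes' := fun c => by
            have e : (⟨τ (algebraMap k A c), hall _⟩ : V) = ⟨algebraMap k L c, hk c⟩ :=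
              Subtype.ext (τ.commutes c)
            exact (congrArg res e).trans (hresk c) }
      exact hnot ⟨g, AlgHom.ext fun f => hresb f (hmem f)⟩

end Groth.Agent.GIT36.HM
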