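import Groth.Agent.Hopf35.MuLimit

/-!
# Lemmas on Laurent polynomials
-/

set_option autoImplicit false

noncomputable section

open LaurentPolynomial

namespace Groth.Agent.GIT36.HM

universe u v

variable {k : Type u} [Field k]

theorem coeff_toLaurent (p : Polynomial k) (n : ℕ) :
    (Polynomial.toLaurent p).coeff (n : ℤ) = p.coeff n := by
  rw [Polynomial.toLaurent_apply]
  simp only [AddMonoidAlgebra.coeff_mapDomain]
  rw [Finsupp.mapDomain_apply (fun a b h => by simpa using h)]
  rfl

/-- evaluation at a unit -/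
def evalT {S : Type v} [CommRing S] [Algebra k S] (x : Sˣ) : k[T;T⁻¹] →ₐ[k] S :=
  { LaurentPolynomial.eval₂ (algebraMap k S) x with
    commutes' := fun c => by
      show LaurentPolynomial.eval₂ (algebraMap k S) x (algebraMap k k[T;T⁻¹] c) = _
      rw [← LaurentPolynomial.C_eq_algebraMap, LaurentPolynomial.eval₂_C] }

@[simp] theorem evalT_T {S : Type v} [CommRing S] [Algebra k S] (x : Sˣ) (n : ℤ) :
    evalT (k := k) x (T n) = ((x ^ n : Sˣ) : S) := LaurentPolynomial.eval₂_T _ _ _

theorem evalT_single {S : Type v} [CommRing S] [Algebra k S] (x : Sˣ) (n : ℤ) (c : k) :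
    evalT (k := k) x (AddMonoidAlgebra.single n c) = algebraMap k S c * ((x ^ n : Sˣ) : S) := by
  rw [single_eq_C_mul_T, map_mul, evalT_T, LaurentPolynomial.C_eq_algebraMap, AlgHom.commutes]

/-- the scaling `T ↦ s T` -/
def scaleT (s : kˣ) : k[T;T⁻¹] →ₐ[k] k[T;T⁻¹] :=
  evalT (Units.map (algebraMap k k[T;T⁻¹]).toMonoidHom s * (isUnit_T 1).unit)

theorem scaleT_T (s : kˣ) (n : ℤ) :
    scaleT s (T n) = algebraMap k k[T;T⁻¹] ((s ^ n : kˣ) : k) * T n := by
  rw [scaleT, evalT_T, mul_zpow, Units.val_mul, ← map_zpow]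
  congr 1
  induction n using Int.induction_on with
  | zero => simp
  | succ i ih => rw [zpow_add_one, Units.val_mul, ih, IsUnit.unit_spec, ← T_add]
  | pred i ih =>
    rw [zpow_sub_one, Units.val_mul, ih]
    refine (Units.mul_inv_eq_iff_eq_mul _).2 ?_
    rw [IsUnit.unit_spec, ← T_add]
    congr 1
    ring

theorem coeff_scaleT (s : kˣ) (z : k[T;T⁻¹]) (n : ℤ) :
    (scaleT s z).coeff n = ((s ^ n : kˣ) : k) * z.coeff n := by
  induction z using LaurentPolynomial.induction_on' with
  | add p q hp hq =>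
    rw [map_add, AddMonoidAlgebra.coeff_add, Finsupp.add_apply, hp, hq, AddMonoidAlgebra.coeff_add,
      Finsupp.add_apply, mul_add]
  | C_mul_T a c =>
    rw [map_mul, scaleT_T, LaurentPolynomial.C_eq_algebraMap, AlgHom.commutes, ← mul_assoc, ← map_mul,
      ← LaurentPolynomial.C_eq_algebraMap, ← LaurentPolynomial.C_eq_algebraMap, ← single_eq_C_mul_T,
      ← single_eq_C_mul_T, AddMonoidAlgebra.coeff_single, AddMonoidAlgebra.coeff_single,
      Finsupp.single_apply, Finsupp.single_apply]
    split_ifs with h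
    · subst h; ring
    · simp

/-- a Laurent polynomial vanishing at all units is zero -/
theorem eq_zero_of_evalT [Infinite k] (z : k[T;T⁻¹]) (h : ∀ s : kˣ, evalT s z = 0) : z = 0 := by
  obtain ⟨N, p, hp⟩ := exists_T_pow z
  have hp0 : Polynomial.X * p = 0 := by
    refine Polynomial.funext fun c => ?_
    rw [Polynomial.eval_mul, Polynomial.eval_X, Polynomial.eval_zero]
    by_cases hc : c = 0
    · rw [hc, zero_mul]
    have h1 : evalT (Units.mk0 c hc) (Polynomial.toLaurent p) = Polynomial.eval c p := by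
      show LaurentPolynomial.eval₂ _ _ (Polynomial.toLaurent p) = _
      rw [LaurentPolynomial.eval₂_toLaurent]
      rfl
    rw [hp, map_mul, h, zero_mul] at h1
    rw [← h1, mul_zero]
  rw [(mul_eq_zero.1 hp0).resolve_left Polynomial.X_ne_zero, map_zero] at hp
  exact (IsUnit.mul_left_eq_zero (isUnit_T (N : ℤ))).1 hp.symm

end Groth.Agent.GIT36.HM
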