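import Groth.Agent.GIT36.HM.Tangent
import Groth.Agent.GIT36.HM.Laurent

/-!
# Straightening a curve in the quotient into a one-parameter subgroup
-/

set_option autoImplicit false

noncomputable section

open LaurentPolynomial CoordGrp

namespace Groth.Agent.GIT36.HM

universe u v

variable {n : ℕ} {k : Type u} [Field k]

/-- `diag (T ^ (-r))` -/
def dg (r : Fin n → ℤ) : (Matrix (Fin n) (Fin n) k[T;T⁻¹])ˣ where
  val := Matrix.diagonal fun i => T (-r i)
  inv := Matrix.diagonal fun i => T (r i)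
  val_inv := by
    rw [Matrix.diagonal_mul_diagonal, ← Matrix.diagonal_one]
    congr 1
    funext i
    rw [← T_add, neg_add_cancel, T_zero]
  inv_val := by
    rw [Matrix.diagonal_mul_diagonal, ← Matrix.diagonal_one]
    congr 1
    funext i
    rw [← T_add, add_neg_cancel, T_zero]

/-- `diag (s ^ (-r))` -/
def dgk (r : Fin n → ℤ) (s : kˣ) : (Matrix (Fin n) (Fin n) k)ˣ where
  val := Matrix.diagonal fun i => ((s ^ (-r i) : kˣ) : k)
  inv := Matrix.diagonal fun i => ((s ^ r i : kˣ) : k)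
  val_inv := by
    rw [Matrix.diagonal_mul_diagonal, ← Matrix.diagonal_one]
    congr 1
    funext i
    rw [← Units.val_mul, ← zpow_add, neg_add_cancel, zpow_zero, Units.val_one]
  inv_val := by
    rw [Matrix.diagonal_mul_diagonal, ← Matrix.diagonal_one]
    congr 1
    funext i
    rw [← Units.val_mul, ← zpow_add, add_neg_cancel, zpow_zero, Units.val_one]

/-- constants -/
def cst (H : (Matrix (Fin n) (Fin n) k)ˣ) : (Matrix (Fin n) (Fin n) k[T;T⁻¹])ˣ :=
  mapU (algebraMap k k[T;T⁻¹]) H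

/-- the curve `t ↦ f(t ^ (-r) H)` -/
def curve (r : Fin n → ℤ) (H : (Matrix (Fin n) (Fin n) k)ˣ) (f : GLn n k) : k[T;T⁻¹] :=
  ev k (dg r * cst H) f

theorem mapU_comp {B C D : Type*} [CommRing B] [CommRing C] [CommRing D] (f : B →+* C) (g : C →+* D)
    (H : (Matrix (Fin n) (Fin n) B)ˣ) : mapU g (mapU f H) = mapU (g.comp f) H :=
  Units.ext (Matrix.ext fun _ _ => rfl)

theorem mapU_self (H : (Matrix (Fin n) (Fin n) k)ˣ) : mapU (algebraMap k k) H = H :=
  Units.ext (Matrix.ext fun _ _ => rfl)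

theorem mapU_algHom {B C : Type*} [CommRing B] [CommRing C] [Algebra k B] [Algebra k C] (φ : B →ₐ[k] C)
    (H : (Matrix (Fin n) (Fin n) k)ˣ) :
    mapU (φ : B →+* C) (mapU (algebraMap k B) H) = mapU (algebraMap k C) H :=
  Units.ext (Matrix.ext fun i j => φ.commutes (H.1 i j))

theorem scaleT_dg (r : Fin n → ℤ) (s : kˣ) :
    mapU (scaleT s : k[T;T⁻¹] →+* k[T;T⁻¹]) (dg r) = cst (dgk r s) * dg r := by
  refine Units.ext (Matrix.ext fun i j => ?_)
  simp only [cst, dgk, dg, Units.val_mul, mapU_val, Matrix.diagonal_map (map_zero _),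
    Matrix.diagonal_mul_diagonal, Matrix.diagonal_apply]
  split_ifs
  · exact scaleT_T s _
  · rfl

theorem evalT_dg (r : Fin n → ℤ) (s : kˣ) :
    mapU (evalT (k := k) s : k[T;T⁻¹] →+* k) (dg r) = dgk r s := by
  refine Units.ext (Matrix.ext fun i j => ?_)
  simp only [dgk, dg, mapU_val, Matrix.diagonal_map (map_zero _), Matrix.diagonal_apply]
  split_ifs
  · exact evalT_T _ _
  · rfl

theorem evalT_curve (r : Fin n → ℤ) (H : (Matrix (Fin n) (Fin n) k)ˣ) (s : kˣ) (f : GLn n k) :
    evalT s (curve r H f) = ev k (dgk r s * H) f := by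
  rw [curve, ev_apply_map, mapU_mul, evalT_dg, cst, mapU_algHom, mapU_self]

theorem curve_transl (r : Fin n → ℤ) (H : (Matrix (Fin n) (Fin n) k)ˣ) (s : kˣ) (f : GLn n k) :
    curve r H (transl (dgk r s) f) = scaleT s (curve r H f) := by
  rw [curve, curve, ev_transl, ev_apply_map, mapU_mul, scaleT_dg, mul_assoc, cst, cst, mapU_algHom]

/-- the weight condition `t^(-r) X t^r = t^j X` -/
def IsWt (r : Fin n → ℤ) (j : ℤ) (X : Matrix (Fin n) (Fin n) k) : Prop :=
  ∀ a b, X a b ≠ 0 → r b - r a = j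

theorem IsWt.pow {r : Fin n → ℤ} {j : ℤ} {X : Matrix (Fin n) (Fin n) k} (hX : IsWt r j X) :
    ∀ N : ℕ, IsWt r (N * j) (X ^ N) := by
  intro N
  induction N with
  | zero =>
    intro a b h
    rw [pow_zero] at h
    by_cases hab : a = b
    · subst hab; simp
    · exact absurd (Matrix.one_apply_ne hab) h
  | succ N ih =>
    intro a b h
    rw [pow_succ, Matrix.mul_apply] at h
    obtain ⟨c, -, hc⟩ := Finset.exists_ne_zero_of_sum_ne_zero h
    have h1 := ih a c (left_ne_zero_of_mul hc)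
    have h2 := hX c b (right_ne_zero_of_mul hc)
    push_cast
    linarith

theorem IsWt.eq_zero_of_lt {r : Fin n → ℤ} {j : ℤ} {X : Matrix (Fin n) (Fin n) k} (hX : IsWt r j X)
    (hj : 2 * ∑ i, |r i| < j) : X = 0 := by
  ext a b
  by_contra h
  have h1 := hX a b h
  have ha : |r a| ≤ ∑ i, |r i| := Finset.single_le_sum (fun i _ => abs_nonneg (r i)) (Finset.mem_univ a)
  have hb : |r b| ≤ ∑ i, |r i| := Finset.single_le_sum (fun i _ => abs_nonneg (r i)) (Finset.mem_univ b)
  linarith [neg_abs_le (r a), le_abs_self (r b)]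

theorem IsWt.isNilpotent {r : Fin n → ℤ} {j : ℤ} {X : Matrix (Fin n) (Fin n) k} (hX : IsWt r j X)
    (hj : 0 < j) : IsNilpotent X := by
  refine ⟨(2 * ∑ i, |r i|).toNat + 1, (hX.pow _).eq_zero_of_lt ?_⟩
  have h1 : (0 : ℤ) ≤ 2 * ∑ i, |r i| := by positivity
  push_cast
  rw [Int.toNat_of_nonneg h1]
  nlinarith

section Main

variable {A : Type u} [CommRing A] [HopfAlgebra k A] (Φ : GLn n k →ₐc[k] A) (r : Fin n → ℤ)

/-- all invariant functions have limits along the curve -/
def Pol (H : (Matrix (Fin n) (Fin n) k)ˣ) : Prop :=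
  ∀ f ∈ Inv Φ, ∀ i : ℤ, i < 0 → (curve r H f).coeff i = 0

variable {Φ r}

theorem Pol.exists_poly {H : (Matrix (Fin n) (Fin n) k)ˣ} (hH : Pol Φ r H) :
    ∃ q : Inv Φ →ₐ[k] Polynomial k, ∀ f : Inv Φ, Polynomial.toLaurent (q f) = curve r H (f : GLn n k) := by
  let φ : Inv Φ →ₐ[k] k[T;T⁻¹] := (ev k (dg r * cst H)).comp (Inv Φ).val
  have hmem : ∀ f, φ f ∈ (Polynomial.toLaurentAlg (R := k)).range := fun f =>
    (Hopf35.MuLimit.mem_range_iff _).2 (hH _ f.2)
  refine ⟨(AlgEquiv.ofInjective (Polynomial.toLaurentAlg (R := k))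
    Polynomial.toLaurent_injective).symm.toAlgHom.comp (φ.codRestrict _ hmem), fun f => ?_⟩
  exact congrArg Subtype.val ((AlgEquiv.ofInjective (Polynomial.toLaurentAlg (R := k))
    Polynomial.toLaurent_injective).apply_symm_apply (φ.codRestrict _ hmem f))

theorem exists_limit [IsAlgClosed k] (hG : HopfRep.IsLinearlyReductive k A)
    {H : (Matrix (Fin n) (Fin n) k)ˣ} (hH : Pol Φ r H) :
    ∃ h₀ : (Matrix (Fin n) (Fin n) k)ˣ, ∀ f ∈ Inv Φ, (curve r H f).coeff 0 = ev k h₀ f := by
  obtain ⟨q, hq⟩ := hH.exists_poly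
  obtain ⟨h₀, hh⟩ := exists_pt_over Φ hG ((Polynomial.aeval (0 : k)).comp q)
  refine ⟨h₀, fun f hf => ?_⟩
  have h := hh ⟨f, hf⟩
  rw [AlgHom.comp_apply, Hopf35.MuLimit.coeff_zero_toLaurent, hq] at h
  exact h.symm

variable [IsAlgClosed k] [CharZero k] [Algebra.FiniteType k A]

/-- the fixed point is fixed -/
theorem limit_fixed (hG : HopfRep.IsLinearlyReductive k A) (hΦ : Function.Surjective Φ)
    {H h₀ : (Matrix (Fin n) (Fin n) k)ˣ} (h0 : ∀ f ∈ Inv Φ, (curve r H f).coeff 0 = ev k h₀ f) (s : kˣ) :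
    ∃ g : A →ₐ[k] k, dgk r s * h₀ = h₀ * mapU (g : A →+* k) (repMat Φ) := by
  refine exists_mul_eq Φ hG hΦ h₀ _ fun f hf => ?_
  have h1 := h0 _ (transl_mem Φ hf (dgk r s))
  rw [curve_transl, coeff_scaleT, zpow_zero, Units.val_one, one_mul, h0 f hf, ev_transl, mapU_self] at h1
  exact h1

/-- the lowest order term is a tangent vector of pure weight -/
theorem exists_weight_dir (hG : HopfRep.IsLinearlyReductive k A) (hΦ : Function.Surjective Φ)
    {H h₀ : (Matrix (Fin n) (Fin n) k)ˣ} (hH : Pol Φ r H)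
    (h0 : ∀ f ∈ Inv Φ, (curve r H f).coeff 0 = ev k h₀ f)
    (j : ℕ) (hj : 0 < j) (hlow : ∀ f ∈ Inv Φ, ∀ i : ℕ, 0 < i → i < j → (curve r H f).coeff (i : ℤ) = 0) :
    ∃ X : Matrix (Fin n) (Fin n) k, IsWt r j X ∧
      ∀ f ∈ Inv Φ, Dir h₀ X f = (curve r H f).coeff (j : ℤ) := by
  classical
  obtain ⟨q, hq⟩ := hH.exists_poly
  have hc : ∀ (f : Inv Φ) (i : ℕ), (q f).coeff i = (curve r H (f : GLn n k)).coeff (i : ℤ) := fun f i => by
    rw [← coeff_toLaurent, hq]
  obtain ⟨X, hX⟩ := exists_dir Φ hG h₀ (fun f => (q f).coeff j) (fun a b => by simp)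
    (fun c => by
      rw [AlgHom.commutes, Polynomial.algebraMap_apply, Polynomial.coeff_C_ne_zero hj.ne'])
    (fun a b => by
      rw [map_mul, Polynomial.coeff_mul, ← h0 _ a.2, ← h0 _ b.2,
        show (curve r H (a : GLn n k)).coeff 0 = (q a).coeff 0 from (hc a 0).symm,
        show (curve r H (b : GLn n k)).coeff 0 = (q b).coeff 0 from (hc b 0).symm]
      rw [Finset.sum_eq_add (a := (0, j)) (b := (j, 0))]
      · ring
      · exact fun h => hj.ne' (congrArg Prod.snd h)
      · rintro ⟨x, y⟩ hxy ⟨hx, hy⟩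
        rw [Finset.HasAntidiagonal.mem_antidiagonal] at hxy
        rcases Nat.eq_zero_or_pos x with rfl | hx'
        · exact absurd (by simpa using hxy) hx
        · rw [hc a x, hlow _ a.2 x hx' ?_, zero_mul]
          by_contra hxj
          apply hy
          simp only [Prod.mk.injEq]
          omega
      · simp
      · simp)
  let Xj : Matrix (Fin n) (Fin n) k := Matrix.of fun a b => if r b - r a = (j : ℤ) then X a b else 0
  refine ⟨Xj, fun a b h => ?_, fun f hf => ?_⟩
  · by_contra hne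
    exact h (if_neg hne)
  have hXf : ∀ g ∈ Inv Φ, Dir h₀ X g = (curve r H g).coeff (j : ℤ) := fun g hg => by
    rw [← hc ⟨g, hg⟩]; exact hX ⟨g, hg⟩
  let E : Fin n × Fin n → Matrix (Fin n) (Fin n) k := fun p => Matrix.single p.1 p.2 (X p.1 p.2)
  let z : k[T;T⁻¹] := ∑ p : Fin n × Fin n, AddMonoidAlgebra.single (r p.2 - r p.1) (Dir h₀ (E p) f) -
    AddMonoidAlgebra.single (j : ℤ) (Dir h₀ X f)
  have hz : z = 0 := by
    refine eq_zero_of_evalT z fun s => ?_
    simp only [z, map_sub, map_sum, evalT_single, Algebra.algebraMap_self, RingHom.id_apply]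
    rw [sub_eq_zero]
    let d := dgk r s
    let Y : Matrix (Fin n) (Fin n) k := ∑ p : Fin n × Fin n, ((s ^ (r p.2 - r p.1) : kˣ) : k) • E p
    have hY : Y = d.1 * X * (d⁻¹).1 := by
      ext a b
      show _ = ((Matrix.diagonal fun i => ((s ^ (-r i) : kˣ) : k)) * X *
        (Matrix.diagonal fun i => ((s ^ r i : kˣ) : k)) : Matrix (Fin n) (Fin n) k) a b
      rw [Matrix.mul_diagonal, Matrix.diagonal_mul]
      simp only [Y]
      rw [Matrix.sum_apply, Finset.sum_eq_single (a, b)]
      · simp only [E, Matrix.smul_apply, Matrix.single_apply_same, smul_eq_mul]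
        rw [sub_eq_add_neg, zpow_add, Units.val_mul]
        ring
      · rintro ⟨c, e⟩ _ hne
        simp only [E, Matrix.smul_apply]
        rw [Matrix.single_apply_of_ne, smul_zero]
        rintro ⟨rfl, rfl⟩
        exact hne rfl
      · simp
    have e1 : Dir h₀ Y f = ∑ p : Fin n × Fin n, Dir h₀ (E p) f * ((s ^ (r p.2 - r p.1) : kˣ) : k) := by
      simp only [Y, Dir_sum, Dir_smul, mul_comm]
    rw [← e1, hXf f hf, mul_comm, ← coeff_scaleT, ← curve_transl, ← hXf _ (transl_mem Φ hf d)]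
    show Dir h₀ Y f = TrivSqZeroExt.snd (ev k (epsU X * inlU h₀) (transl d f))
    rw [ev_transl]
    obtain ⟨g, hg⟩ := limit_fixed hG hΦ h0 s
    let g' : A →ₐ[k] DualNumber k := (Algebra.ofId k (DualNumber k)).comp g
    have hinv := IsInv.ev_mul Φ hf (epsU Y * inlU h₀) g'
    rw [Dir, ← hinv]
    congr 2
    refine congrArg (ev k) ?_
    have e2 : inlU h₀ * mapU (g' : A →+* DualNumber k) (repMat Φ) = inlU (d * h₀) := by
      rw [hg, inlU, inlU, mapU_mul, mapU_comp]
      congr 1
    have e3 : mapU (algebraMap k (DualNumber k)) d * epsU X = epsU Y * inlU d := by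
      refine Units.ext (Matrix.ext fun a b => TrivSqZeroExt.ext ?_ ?_)
      · simp only [Units.val_mul]
        rw [fst_eps, Matrix.mul_apply, TrivSqZeroExt.fst_sum, Finset.sum_eq_single b]
        · simp [epsU, TrivSqZeroExt.algebraMap_eq_inl]
        · intro c _ hc
          simp [epsU, Matrix.one_apply_ne hc]
        · simp
      · simp only [Units.val_mul]
        rw [snd_eps, hY, Matrix.mul_assoc _ (d⁻¹).1, Units.inv_mul, Matrix.mul_one, Matrix.mul_apply, Matrix.mul_apply,
          TrivSqZeroExt.snd_sum]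
        refine Finset.sum_congr rfl fun c _ => ?_
        by_cases hc : c = b
        · simp [hc, epsU, TrivSqZeroExt.algebraMap_eq_inl]
        · simp [Matrix.one_apply_ne hc, epsU, TrivSqZeroExt.algebraMap_eq_inl]
          ring
    rw [mul_assoc, e2, ← mul_assoc, e3, mul_assoc, inlU, inlU, inlU, ← mapU_mul]
  have hz' := congrArg (fun w : k[T;T⁻¹] => w.coeff (j : ℤ)) hz
  simp only [z, AddMonoidAlgebra.coeff_sub, Finsupp.sub_apply, AddMonoidAlgebra.coeff_sum, Finsupp.coe_finsetSum,
    Finset.sum_apply, AddMonoidAlgebra.coeff_single, Finsupp.single_apply, AddMonoidAlgebra.coeff_zero,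
    Finsupp.coe_zero, Pi.zero_apply, if_true, sub_eq_zero] at hz'
  rw [← hXf f hf, ← hz']
  have hXj : Xj = ∑ p : Fin n × Fin n, if r p.2 - r p.1 = (j : ℤ) then E p else 0 := by
    ext a b
    rw [Matrix.sum_apply, Finset.sum_eq_single (a, b)]
    · simp only [Xj, E, Matrix.of_apply]
      split_ifs <;> simp
    · rintro ⟨c, e⟩ _ hne
      split_ifs
      · refine Matrix.single_apply_of_ne _ _ _ _ _ ?_
        rintro ⟨rfl, rfl⟩
        exact hne rfl
      · rfl
    · simp
  rw [hXj, Dir_sum]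
  refine Finset.sum_congr rfl fun p _ => ?_
  split_ifs
  · rfl
  · simp [Dir_eq]

omit [IsAlgClosed k] [CharZero k] [Algebra.FiniteType k A] in
theorem isNilpotent_map {B : Type*} [CommRing B] [Algebra k B] {X : Matrix (Fin n) (Fin n) k}
    (hX : IsNilpotent X) (t : B) : IsNilpotent (t • X.map (algebraMap k B)) :=
  IsNilpotent.smul (hX.map (algebraMap k B).mapMatrix) t

/-- `1 - t X` -/
def oneSub {B : Type*} [CommRing B] [Algebra k B] {X : Matrix (Fin n) (Fin n) k}
    (hX : IsNilpotent X) (t : B) : (Matrix (Fin n) (Fin n) B)ˣ :=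
  (isNilpotent_map hX t).isUnit_one_sub.unit

omit [IsAlgClosed k] [CharZero k] [Algebra.FiniteType k A] in
theorem mapU_oneSub {B C : Type*} [CommRing B] [CommRing C] [Algebra k B] [Algebra k C] {X : Matrix (Fin n) (Fin n) k}
    (hX : IsNilpotent X) (φ : B →ₐ[k] C) (t : B) :
    mapU (φ : B →+* C) (oneSub hX t) = oneSub hX (φ t) := by
  refine Units.ext (Matrix.ext fun a b => ?_)
  simp only [oneSub, mapU_val, IsUnit.unit_spec, Matrix.map_apply, Matrix.sub_apply, Matrix.smul_apply,
    smul_eq_mul, AlgHom.coe_toRingHom, map_sub, map_mul, AlgHom.commutes]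
  congr 1
  rw [Matrix.one_apply, Matrix.one_apply]
  split_ifs <;> simp

omit [IsAlgClosed k] [CharZero k] [Algebra.FiniteType k A] in
theorem mapU_oneSub_base {B : Type*} [CommRing B] [Algebra k B] {X : Matrix (Fin n) (Fin n) k}
    (hX : IsNilpotent X) (c : k) :
    mapU (algebraMap k B) (oneSub hX c) = oneSub hX (algebraMap k B c) :=
  mapU_oneSub hX (Algebra.ofId k B) c

omit [IsAlgClosed k] [CharZero k] [Algebra.FiniteType k A] in
theorem snd_aeval_inr (a : k) (p : Polynomial k) :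
    TrivSqZeroExt.snd (Polynomial.aeval (TrivSqZeroExt.inr a : DualNumber k) p) = a * p.coeff 1 := by
  induction p using Polynomial.induction_on' with
  | add p q hp hq => rw [map_add, TrivSqZeroExt.snd_add, hp, hq, Polynomial.coeff_add, mul_add]
  | monomial i c =>
    rw [Polynomial.aeval_monomial, Polynomial.coeff_monomial]
    match i with
    | 0 => simp [TrivSqZeroExt.algebraMap_eq_inl]
    | 1 => simp [TrivSqZeroExt.algebraMap_eq_inl, mul_comm]
    | i + 2 => simp [pow_succ, mul_assoc, TrivSqZeroExt.inr_mul_inr]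

omit [IsAlgClosed k] [CharZero k] [Algebra.FiniteType k A] in
/-- the coefficientwise `l`-th coefficient -/
theorem exists_coeffPoly (F : Polynomial k[T;T⁻¹]) (l : ℤ) : ∃ G : Polynomial k,
    (∀ i, G.coeff i = (F.coeff i).coeff l) ∧
      ∀ c : k, G.eval c = (Polynomial.aeval (algebraMap k k[T;T⁻¹] c) F).coeff l := by
  classical
  refine ⟨∑ i ∈ F.support, Polynomial.monomial i ((F.coeff i).coeff l), fun i => ?_, fun c => ?_⟩
  · rw [Polynomial.finsetSum_coeff]
    simp only [Polynomial.coeff_monomial, Finset.sum_ite_eq', Polynomial.mem_support_iff, ite_not]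
    split_ifs with h
    · simp [h]
    · rfl
  · rw [Polynomial.eval_finsetSum, Polynomial.aeval_def, Polynomial.eval₂_eq_sum, Polynomial.sum,
      AddMonoidAlgebra.coeff_sum, Finsupp.coe_finsetSum, Finset.sum_apply]
    refine Finset.sum_congr rfl fun i _ => ?_
    rw [Polynomial.eval_monomial, Algebra.algebraMap_self, RingHom.id_apply, ← map_pow,
      mul_comm (F.coeff i), ← Algebra.smul_def, AddMonoidAlgebra.coeff_smul, Finsupp.smul_apply, smul_eq_mul,
      mul_comm]

omit [Algebra.FiniteType k A] in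
/-- the effect of `H ↦ (1 - X) H` -/
theorem step_coeff {H h₀ : (Matrix (Fin n) (Fin n) k)ˣ} (hH : Pol Φ r H)
    (h0 : ∀ f ∈ Inv Φ, (curve r H f).coeff 0 = ev k h₀ f) (j : ℕ) (hj : 0 < j)
    {X : Matrix (Fin n) (Fin n) k} (hX : IsWt r j X) (hnil : IsNilpotent X) :
    Pol Φ r (oneSub hnil (1 : k) * H) ∧ ∀ f ∈ Inv Φ,
      (∀ l : ℕ, l < j →
        (curve r (oneSub hnil (1 : k) * H) f).coeff (l : ℤ) = (curve r H f).coeff (l : ℤ)) ∧
      (curve r (oneSub hnil (1 : k) * H) f).coeff (j : ℤ) = (curve r H f).coeff (j : ℤ) - Dir h₀ X f := by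
  classical
  suffices h : ∀ f ∈ Inv Φ, ∀ l : ℤ, l ≤ j →
      (curve r (oneSub hnil (1 : k) * H) f).coeff l =
        (curve r H f).coeff l - if l = j then Dir h₀ X f else 0 by
    refine ⟨fun f hf l hl => ?_, fun f hf => ⟨fun l hl => ?_, ?_⟩⟩
    · rw [h f hf l (by omega), if_neg (by omega), sub_zero, hH f hf l hl]
    · rw [h f hf l (by omega), if_neg (by omega), sub_zero]
    · rw [h f hf _ le_rfl, if_pos rfl]
  intro f hf
  let B := Polynomial k[T;T⁻¹]
  let U : (Matrix (Fin n) (Fin n) B)ˣ := oneSub hnil (Polynomial.X : B)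
  let F : B := ev k (U * mapU (Polynomial.C : k[T;T⁻¹] →+* B) (dg r * cst H)) f
  have heval : ∀ x : k[T;T⁻¹], Polynomial.aeval x F = ev k (oneSub hnil x * (dg r * cst H)) f := by
    intro x
    show ((Polynomial.aeval x).restrictScalars k) F = _
    rw [ev_apply_map, mapU_mul, mapU_oneSub, mapU_comp]
    congr 2
    congr 1
    · congr 1
      exact Polynomial.aeval_X x
    · refine Units.ext (Matrix.ext fun a b => ?_)
      exact Polynomial.aeval_C x _
  have hval : ∀ c : k, Polynomial.aeval (algebraMap k k[T;T⁻¹] c) F = curve r H (transl (oneSub hnil c) f) := by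
    intro c
    rw [heval, curve, ev_transl, mapU_oneSub_base]
  have hneg : ∀ (i : ℕ) (l : ℤ), l < 0 → (F.coeff i).coeff l = 0 := by
    intro i l hl
    obtain ⟨G, hG1, hG2⟩ := exists_coeffPoly F l
    have : G = 0 := Polynomial.funext fun c => by
      rw [hG2, hval, Polynomial.eval_zero]
      exact hH _ (transl_mem Φ hf _) l hl
    rw [← hG1, this, Polynomial.coeff_zero]
  have hF0 : F.coeff 0 = curve r H f := by
    have h := hval 0
    rw [map_zero, ← Polynomial.coeff_zero_eq_aeval_zero] at h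
    rw [h]
    have : oneSub hnil (0 : k) = 1 := Units.ext (by simp [oneSub])
    rw [this, transl_one]
  have hF1 : (F.coeff 1).coeff 0 = - Dir h₀ X f := by
    obtain ⟨G, hG1, hG2⟩ := exists_coeffPoly F 0
    let G' : Polynomial k :=
      ev k (oneSub hnil (Polynomial.X : Polynomial k) * mapU (algebraMap k (Polynomial k)) h₀) f
    have hGG : G = G' := Polynomial.funext fun c => by
      rw [hG2, hval, h0 _ (transl_mem Φ hf _), ev_transl, mapU_self, ← Polynomial.coe_aeval_eq_eval,
        ev_apply_map, mapU_mul, mapU_oneSub, Polynomial.aeval_X, mapU_algHom, mapU_self]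
    have h1 := snd_aeval_inr (-1 : k) G'
    rw [ev_apply_map, mapU_mul, mapU_oneSub, Polynomial.aeval_X, mapU_algHom, ← hGG, hG1] at h1
    suffices h2 : Dir h₀ X f = -1 * (F.coeff 1).coeff 0 by rw [h2]; ring
    rw [← h1, Dir]
    refine congrArg TrivSqZeroExt.snd ?_
    refine congrArg (fun W => ev k W f) ?_
    refine congrArg₂ (fun W W' => W * W') ?_ (Units.ext (Matrix.ext fun _ _ => rfl))
    refine Units.ext (Matrix.ext fun a b => TrivSqZeroExt.ext ?_ ?_)
    · simp [oneSub, epsU, Matrix.one_apply, apply_ite TrivSqZeroExt.fst, TrivSqZeroExt.algebraMap_eq_inl]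
    · simp [oneSub, epsU, Matrix.one_apply, apply_ite TrivSqZeroExt.snd, TrivSqZeroExt.algebraMap_eq_inl]
  have hkey : Polynomial.aeval (T (j : ℤ) : k[T;T⁻¹]) F = curve r (oneSub hnil (1 : k) * H) f := by
    rw [heval, curve, ← mul_assoc]
    have hcomm : oneSub hnil (T (j : ℤ) : k[T;T⁻¹]) * dg r = dg r * cst (oneSub hnil (1 : k)) := by
      refine Units.ext (Matrix.ext fun a b => ?_)
      simp only [Units.val_mul, oneSub, cst, dg, mapU_val, IsUnit.unit_spec, Matrix.mul_diagonal,
        Matrix.diagonal_mul, Matrix.map_apply, Matrix.sub_apply, Matrix.smul_apply, smul_eq_mul, one_mul,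
        map_sub, sub_mul, mul_sub, Algebra.algebraMap_self, RingHom.id_apply]
      congr 1
      · rw [Matrix.one_apply]
        split_ifs with hab <;> simp [hab, Matrix.one_apply]
      · by_cases hab : X a b = 0
        · simp [hab]
        · rw [mul_right_comm, ← T_add]
          congr 2
          have := hX a b hab
          omega
    rw [hcomm, mul_assoc, cst, cst, cst, ← mapU_mul]
  intro l hl
  rw [← hkey, Polynomial.aeval_eq_sum_range' (n := F.natDegree + 2) (by omega), AddMonoidAlgebra.coeff_sum,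
    Finsupp.coe_finsetSum, Finset.sum_apply]
  have hterm : ∀ i : ℕ, (F.coeff i • (T (j : ℤ) : k[T;T⁻¹]) ^ i).coeff l = (F.coeff i).coeff (l - i * j) := by
    intro i
    rw [T_pow, smul_eq_mul, mul_comm, Hopf35.MuLimit.coeff_T_mul]
  simp only [hterm]
  rw [← Finset.sum_subset (s₁ := ({0, 1} : Finset ℕ))
    (fun x hx => by
      simp only [Finset.mem_insert, Finset.mem_singleton] at hx
      simp only [Finset.mem_range]
      omega)
    (fun i _ hi => by
      simp only [Finset.mem_insert, Finset.mem_singleton, not_or] at hi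
      refine hneg i _ ?_
      have : (2 : ℤ) * j ≤ (i : ℤ) * j := mul_le_mul_of_nonneg_right (by omega) (by omega)
      omega),
    Finset.sum_pair (by norm_num)]
  push_cast
  rw [zero_mul, sub_zero, one_mul, hF0, sub_eq_add_neg _ (if l = (j : ℤ) then _ else _)]
  congr 1
  split_ifs with h
  · rw [h, sub_self, hF1]
  · rw [neg_zero]
    exact hneg 1 _ (by omega)

/-- **straightening**: some translate of `H` gives a constant curve -/
theorem exists_constant (hG : HopfRep.IsLinearlyReductive k A) (hΦ : Function.Surjective Φ)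
    (P : (Matrix (Fin n) (Fin n) k)ˣ → Prop)
    (hP : ∀ H, P H → ∀ (j : ℕ) (X : Matrix (Fin n) (Fin n) k) (hnil : IsNilpotent X),
      0 < j → IsWt r j X → P (oneSub hnil (1 : k) * H))
    {H : (Matrix (Fin n) (Fin n) k)ˣ} (hH : Pol Φ r H) (hPH : P H) :
    ∃ H' : (Matrix (Fin n) (Fin n) k)ˣ, P H' ∧ ∀ f ∈ Inv Φ, ∀ s : kˣ, ev k (dgk r s * H') f = ev k H' f := by
  obtain ⟨h₀, h0⟩ := exists_limit hG hH
  have hind : ∀ j : ℕ, ∃ H' : (Matrix (Fin n) (Fin n) k)ˣ, Pol Φ r H' ∧ P H' ∧
      (∀ f ∈ Inv Φ, (curve r H' f).coeff 0 = ev k h₀ f) ∧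
      ∀ f ∈ Inv Φ, ∀ i : ℕ, 0 < i → i < j + 1 → (curve r H' f).coeff (i : ℤ) = 0 := by
    intro j
    induction j with
    | zero => exact ⟨H, hH, hPH, h0, fun f hf i hi hi' => by omega⟩
    | succ j ih =>
      obtain ⟨H', hH', hP', h0', hlow⟩ := ih
      obtain ⟨X, hX, hXf⟩ := exists_weight_dir hG hΦ hH' h0' (j + 1) (by omega) hlow
      have hnil : IsNilpotent X := hX.isNilpotent (by omega)
      obtain ⟨hpol, hco⟩ := step_coeff hH' h0' (j + 1) (by omega) hX hnil
      refine ⟨_, hpol, hP H' hP' _ X hnil (by omega) hX, fun f hf => ?_, fun f hf i hi hi' => ?_⟩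
      · exact ((hco f hf).1 0 (by omega)).trans (h0' f hf)
      · rcases (Nat.lt_succ_iff.1 hi').lt_or_eq with h | rfl
        · exact ((hco f hf).1 i h).trans (hlow f hf i hi h)
        · rw [(hco f hf).2, hXf f hf, sub_self]
  obtain ⟨H', hH', hP', h0', hlow⟩ := hind (2 * ∑ i, |r i|).toNat
  refine ⟨H', hP', ?_⟩
  have hall : ∀ i : ℕ, 0 < i → ∀ f ∈ Inv Φ, (curve r H' f).coeff (i : ℤ) = 0 := by
    intro i
    induction i using Nat.strong_induction_on with
    | _ i ih =>
      intro hi f hf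
      by_cases hle : i < (2 * ∑ i, |r i|).toNat + 1
      · exact hlow f hf i hi hle
      · obtain ⟨X, hX, hXf⟩ := exists_weight_dir hG hΦ hH' h0' i hi fun g hg l hl hl' => ih l hl' hl g hg
        rw [← hXf f hf, hX.eq_zero_of_lt (by omega)]
        simp [Dir_eq]
  intro f hf s
  have hc : curve r H' f = algebraMap k k[T;T⁻¹] (ev k h₀ f) := by
    refine LaurentPolynomial.ext fun l => ?_
    rw [← LaurentPolynomial.C_eq_algebraMap, ← single_eq_C, AddMonoidAlgebra.coeff_single, Finsupp.single_apply]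
    rcases lt_trichotomy l 0 with h | h | h
    · rw [if_neg h.ne', hH' f hf l h]
    · rw [if_pos h.symm, h, h0' f hf]
    · rw [if_neg h.ne]
      obtain ⟨m, rfl⟩ := Int.eq_ofNat_of_zero_le h.le
      exact hall m (by exact_mod_cast h) f hf
  have h1 : ev k H' f = evalT (1 : kˣ) (curve r H' f) := by
    rw [evalT_curve]
    congr 2
    refine Units.ext (Matrix.ext fun a b => ?_)
    simp [dgk]
  rw [h1, ← evalT_curve, hc, AlgHom.commutes, AlgHom.commutes]

end Main

end Groth.Agent.GIT36.HM
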