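import Groth.Agent.GIT36.HM.Weights

/-!
# A destabilising one-parameter subgroup from a point over a valuation ring
-/

set_option autoImplicit false

noncomputable section

open LaurentPolynomial CoordGrp Matrix

namespace Groth.Agent.GIT36.HM

universe u v

variable {n : ℕ} {k : Type u} [Field k]

/-- an upward closed sign condition survives `H ↦ (1 - X) H` -/
theorem sign_step (r : Fin n → ℤ) (Q : ℤ → Prop) (hQ : ∀ c c', c ≤ c' → Q c → Q c') (w : Fin n → k)
    (H : (Matrix (Fin n) (Fin n) k)ˣ) (hw : ∀ i, (w ᵥ* (H⁻¹).1) i ≠ 0 → Q (r i))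
    {j : ℕ} {X : Matrix (Fin n) (Fin n) k} (hnil : IsNilpotent X) (hj : 0 < j) (hX : IsWt r j X)
    (i : Fin n) (hi : (w ᵥ* ((oneSub hnil (1 : k) * H)⁻¹).1) i ≠ 0) : Q (r i) := by
  classical
  set w' := w ᵥ* ((oneSub hnil (1 : k) * H)⁻¹).1 with hw'
  have h1 : w ᵥ* (H⁻¹).1 = w' - w' ᵥ* X := by
    have e : (H⁻¹).1 = ((oneSub hnil (1 : k) * H)⁻¹).1 * (1 - X) := by
      have : (oneSub hnil (1 : k)).1 = 1 - X := by simp [oneSub, Matrix.map_id']
      rw [← this, ← Units.val_mul, _root_.mul_inv_rev, inv_mul_cancel_right]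
    rw [e, ← Matrix.vecMul_vecMul, ← hw', Matrix.vecMul_sub, Matrix.vecMul_one]
  obtain ⟨b, hb, hmin⟩ := (Finset.univ.filter fun a => w' a ≠ 0).exists_min_image r ⟨i, by simpa using hi⟩
  rw [Finset.mem_filter] at hb
  refine hQ (r b) (r i) (hmin i (by simpa using hi)) (hw b fun h => ?_)
  have h2 := congrFun h1 b
  rw [h, Pi.sub_apply, eq_comm, sub_eq_zero] at h2
  have h3 : (w' ᵥ* X) b ≠ 0 := h2 ▸ hb.2
  obtain ⟨a, -, ha⟩ := Finset.exists_ne_zero_of_sum_ne_zero (show ∑ a, w' a * X a b ≠ 0 from h3)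
  have h4 := hmin a (Finset.mem_filter.2 ⟨Finset.mem_univ a, left_ne_zero_of_mul ha⟩)
  have h5 := hX a b (right_ne_zero_of_mul ha)
  omega

variable {A : Type u} [CommRing A] [HopfAlgebra k A] [IsAlgClosed k] [CharZero k] [Algebra.FiniteType k A]
  (Φ : GLn n k →ₐc[k] A)

theorem pol_of_generators {r : Fin n → ℤ} {H : (Matrix (Fin n) (Fin n) k)ˣ} (s : Finset (GLn n k))
    (hs : Algebra.adjoin k (s : Set (GLn n k)) = Inv Φ)
    (h : ∀ f ∈ s, ∀ i : ℤ, i < 0 → (curve r H f).coeff i = 0) : Pol Φ r H := by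
  intro f hf i hi
  have hle : Inv Φ ≤ ((Polynomial.toLaurentAlg (R := k)).range).comap (ev k (dg r * cst H)) := by
    rw [← hs, Algebra.adjoin_le_iff]
    intro g hg
    exact (Hopf35.MuLimit.mem_range_iff _).2 (h g hg)
  exact (Hopf35.MuLimit.mem_range_iff _).1 (hle hf) i hi

variable {L : Type u} [Field L] [Algebra k L] (V : ValuationSubring L)
  (hk : ∀ a, algebraMap k L a ∈ V) (res : V →+* k)
  (hres : RingHom.ker res = IsLocalRing.maximalIdeal V) (hresk : ∀ a, res ⟨algebraMap k L a, hk a⟩ = a)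

include hres hresk in
/-- **destabilising subgroup** -/
theorem exists_destab (hG : HopfRep.IsLinearlyReductive k A) (hΦ : Function.Surjective Φ)
    (φ : A →ₐ[k] L) (v : Fin n → k)
    (hv : ∀ i, ((fun j => algebraMap k L (v j)) ᵥ* (mapU (φ : A →+* L) (repMat Φ)).1) i ∈ V) :
    ∃ (lam : A →ₐc[k] k[T;T⁻¹]) (r : Fin n → ℤ) (H : (Matrix (Fin n) (Fin n) k)ˣ),
      mapU ((lam : A →ₐ[k] k[T;T⁻¹]) : A →+* k[T;T⁻¹]) (repMat Φ) = cst H⁻¹ * (dg r)⁻¹ * cst H ∧
      (∀ i, (v ᵥ* (H⁻¹).1) i ≠ 0 → 0 ≤ r i) ∧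
      ((∀ i (h : ((fun j => algebraMap k L (v j)) ᵥ* (mapU (φ : A →+* L) (repMat Φ)).1) i ∈ V),
          res ⟨_, h⟩ = 0) → ∀ i, (v ᵥ* (H⁻¹).1) i ≠ 0 → 0 < r i) ∧
      (r = 0 → ∀ a, φ a ∈ V) := by
  classical
  set g₀ := mapU (φ : A →+* L) (repMat Φ) with hg₀
  obtain ⟨u, u', d₀, hd⟩ := exists_smith V n g₀.1
  have hd0 : ∀ a, d₀ a ≠ 0 := by
    have hdet := ((Matrix.isUnit_iff_isUnit_det _).1 g₀.isUnit).ne_zero
    rw [hd, Matrix.det_mul, Matrix.det_mul, Matrix.det_diagonal] at hdet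
    intro a
    exact Finset.prod_ne_zero_iff.1 (right_ne_zero_of_mul (left_ne_zero_of_mul hdet)) a (Finset.mem_univ a)
  let d : Fin n → Lˣ := fun a => Units.mk0 (d₀ a) (hd0 a)
  -- the coordinates in the diagonal frame
  let ι : k →+* V := (algebraMap k L).codRestrict V.toSubring hk
  let w : Fin n → V := (fun j => ι (v j)) ᵥ* u.1
  have hwres : ∀ a, res (w a) = (v ᵥ* (mapU res u).1) a := fun a => by
    simp only [w, RingHom.map_vecMul, mapU_val]
    congr 2
    exact funext fun j => hresk (v j)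
  let z : Fin n → V := (fun i => (⟨_, hv i⟩ : V)) ᵥ* (u'⁻¹).1
  have hwz : ∀ a, (w a : L) * d₀ a = z a := by
    intro a
    have e : (fun j => algebraMap k L (v j)) ᵥ* g₀.1 ᵥ* (u'⁻¹).1.map V.subtype =
        ((fun j => algebraMap k L (v j)) ᵥ* u.1.map V.subtype) ᵥ* Matrix.diagonal d₀ := by
      rw [Matrix.vecMul_vecMul, Matrix.vecMul_vecMul, hd, Matrix.mul_assoc _ (u'.1.map V.subtype),
        ← Matrix.map_mul, Units.mul_inv, Matrix.map_one _ (map_zero _) (map_one _), Matrix.mul_one]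
    have e' := congrFun e a
    rw [Matrix.vecMul_diagonal] at e'
    show V.subtype (w a) * d₀ a = V.subtype (z a)
    simp only [w, z, RingHom.map_vecMul]
    exact e'.symm
  let Γ := Additive V.ValueGroupˣ
  let γ : Fin n → Γ := fun a => Additive.ofMul (Units.map V.valuation.toMonoidWithZeroHom.toMonoidHom (d a)⁻¹)
  have hsum : ∀ x : Fin n → ℤ, ∑ a, x a • γ a =
      Additive.ofMul (Units.map V.valuation.toMonoidWithZeroHom.toMonoidHom (∏ a, (d a)⁻¹ ^ x a)) := by
    intro x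
    rw [map_prod, ofMul_prod]
    refine Finset.sum_congr rfl fun a _ => ?_
    rw [map_zpow, ofMul_zpow]
  have hnn : ∀ y : Lˣ, 0 ≤ Additive.ofMul (Units.map V.valuation.toMonoidWithZeroHom.toMonoidHom y) ↔
      1 ≤ V.valuation (y : L) := fun y => by
    rw [← ofMul_one, Additive.ofMul_le, ← Units.val_le_val]
    rfl
  have hpp : ∀ y : Lˣ, 0 < Additive.ofMul (Units.map V.valuation.toMonoidWithZeroHom.toMonoidHom y) ↔
      1 < V.valuation (y : L) := fun y => by
    rw [← ofMul_one, Additive.ofMul_lt, ← Units.val_lt_val]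
    rfl
  obtain ⟨gens, hgens⟩ := fg_Inv Φ hG
  have hgmem : ∀ f ∈ gens, f ∈ Inv Φ := fun f hf => hgens ▸ Algebra.subset_adjoin hf
  choose! Sf hSf1 hSf2 using fun f (hf : f ∈ gens) =>
    exists_conditions V hk res hres hresk Φ φ u u' d (by rw [← hg₀, hd]; rfl) f (hgmem f hf)
  let P : Prop := ∀ i (h : ((fun j => algebraMap k L (v j)) ᵥ* g₀.1) i ∈ V), res ⟨_, h⟩ = 0
  let J : Finset (Fin n → ℤ) := (Finset.univ.filter fun a => res (w a) ≠ 0).image fun a => Pi.single a 1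
  let N : Finset (Fin n → ℤ) := (Finset.univ.filter fun a => 0 < γ a).image fun a => Pi.single a 1
  let N' : Finset (Fin n → ℤ) := (Finset.univ.filter fun a => γ a < 0).image fun a => Pi.single a (-1)
  have hsingle : ∀ (a : Fin n) (c : ℤ), ∑ b, (Pi.single a c : Fin n → ℤ) b • γ b = c • γ a := fun a c => by
    rw [Finset.sum_eq_single a (fun b _ hb => by rw [Pi.single_eq_of_ne hb, zero_smul]) (by simp),
      Pi.single_eq_same]
  have hsingle' : ∀ (a : Fin n) (c : ℤ) (r : Fin n → ℤ), ∑ b, (Pi.single a c : Fin n → ℤ) b * r b = c * r a :=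
    fun a c r => by
    rw [Finset.sum_eq_single a (fun b _ hb => by rw [Pi.single_eq_of_ne hb, zero_mul]) (by simp),
      Pi.single_eq_same]
  have hJv : ∀ a, res (w a) ≠ 0 → V.valuation ((w a : L)) = 1 := fun a ha => by
    refine (V.valuation_eq_one_iff _).1 ?_
    by_contra hnu
    exact ha (RingHom.mem_ker.1 (hres ▸ hnu))
  have hγd : ∀ a, ((d a)⁻¹ : Lˣ).1 = (d₀ a)⁻¹ := fun a => Units.val_inv_eq_inv_val (d a)
  have hJ1 : ∀ a, res (w a) ≠ 0 → 0 ≤ γ a := fun a ha => by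
    rw [hnn, hγd, map_inv₀, one_le_inv₀ (zero_lt_iff.2 ((V.valuation.ne_zero_iff).2 (hd0 a)))]
    calc V.valuation (d₀ a) = V.valuation ((w a : L) * d₀ a) := by rw [map_mul, hJv a ha, one_mul]
      _ ≤ 1 := by rw [hwz]; exact V.valuation_le_one _
  have hJ2 : P → ∀ a, res (w a) ≠ 0 → 0 < γ a := fun hP a ha => by
    rw [hpp, hγd, map_inv₀, one_lt_inv₀ (zero_lt_iff.2 ((V.valuation.ne_zero_iff).2 (hd0 a)))]
    have hz : res (z a) = 0 := by
      have h0 : (⇑res ∘ fun i => (⟨_, hv i⟩ : V)) = 0 := funext fun i => hP i (hv i)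
      simp only [z, RingHom.map_vecMul, h0, Matrix.zero_vecMul, Pi.zero_apply]
    calc V.valuation (d₀ a) = V.valuation ((w a : L) * d₀ a) := by rw [map_mul, hJv a ha, one_mul]
      _ < 1 := by
        rw [hwz]
        exact (V.valuation_lt_one_iff _).1 (hres ▸ RingHom.mem_ker.2 hz)
  let S' : Finset (Fin n → ℤ) := N ∪ N' ∪ (if P then J else ∅)
  obtain ⟨r, hr, hr'⟩ := exists_int_weights γ (gens.biUnion Sf ∪ J) S' (by
      intro x hx
      rcases Finset.mem_union.1 hx with hx | hx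
      · obtain ⟨f, hf, hxf⟩ := Finset.mem_biUnion.1 hx
        rw [hsum, hnn]
        exact hSf1 f hf x hxf
      · obtain ⟨a, ha, rfl⟩ := Finset.mem_image.1 hx
        rw [hsingle, one_zsmul]
        exact hJ1 a (Finset.mem_filter.1 ha).2)
    (by
      intro x hx
      simp only [S', Finset.mem_union] at hx
      rcases hx with (hx | hx) | hx
      · obtain ⟨a, ha, rfl⟩ := Finset.mem_image.1 hx
        rw [hsingle, one_zsmul]
        exact (Finset.mem_filter.1 ha).2
      · obtain ⟨a, ha, rfl⟩ := Finset.mem_image.1 hx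
        rw [hsingle, neg_one_zsmul, Left.neg_pos_iff]
        exact (Finset.mem_filter.1 ha).2
      · by_cases hP : P
        · rw [if_pos hP] at hx
          obtain ⟨a, ha, rfl⟩ := Finset.mem_image.1 hx
          rw [hsingle, one_zsmul]
          exact hJ2 hP a (Finset.mem_filter.1 ha).2
        · rw [if_neg hP] at hx
          exact absurd hx (Finset.notMem_empty _))
  set H₀ := (mapU res u)⁻¹ with hH₀
  have hpol : Pol Φ r H₀ := pol_of_generators Φ gens hgens fun f hf =>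
    hSf2 f hf r fun x hx => hr x (Finset.mem_union_left _ (Finset.mem_biUnion.2 ⟨f, hf, hx⟩))
  let Q : (Matrix (Fin n) (Fin n) k)ˣ → Prop := fun H =>
    (∀ i, (v ᵥ* (H⁻¹).1) i ≠ 0 → 0 ≤ r i) ∧ (P → ∀ i, (v ᵥ* (H⁻¹).1) i ≠ 0 → 0 < r i)
  have hQ₀ : Q H₀ := by
    refine ⟨fun i hi => ?_, fun hP i hi => ?_⟩ <;> rw [hH₀, inv_inv, ← hwres] at hi
    · have := hr _ (Finset.mem_union_right _ (Finset.mem_image.2 ⟨i, Finset.mem_filter.2 ⟨Finset.mem_univ i, hi⟩, rfl⟩))
      rwa [hsingle', one_mul] at this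
    · have := hr' (Pi.single i 1) (Finset.mem_union_right _ (by
        rw [if_pos hP]
        exact Finset.mem_image.2 ⟨i, Finset.mem_filter.2 ⟨Finset.mem_univ i, hi⟩, rfl⟩))
      rwa [hsingle', one_mul] at this
  obtain ⟨H, hH, hconst⟩ := exists_constant hG hΦ Q (fun H hH j X hnil hj hX =>
    ⟨sign_step r (fun c => 0 ≤ c) (fun c c' h hc => hc.trans h) v H hH.1 hnil hj hX,
      fun hP => sign_step r (fun c => 0 < c) (fun c c' h hc => hc.trans_le h) v H (hH.2 hP) hnil hj hX⟩) hpol hQ₀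
  obtain ⟨lam, hlam⟩ := exists_lam Φ hG hΦ r H hconst
  refine ⟨lam, r, H, hlam, hH.1, hH.2, fun hr0 a => ?_⟩
  have hγ : ∀ b, γ b = 0 := by
    intro b
    rcases lt_trichotomy (γ b) 0 with h | h | h
    · have := hr' (Pi.single b (-1)) (Finset.mem_union_left _ (Finset.mem_union_right _
        (Finset.mem_image.2 ⟨b, Finset.mem_filter.2 ⟨Finset.mem_univ b, h⟩, rfl⟩)))
      rw [hsingle', hr0] at this
      simp at this
    · exact h
    · have := hr' (Pi.single b 1) (Finset.mem_union_left _ (Finset.mem_union_left _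
        (Finset.mem_image.2 ⟨b, Finset.mem_filter.2 ⟨Finset.mem_univ b, h⟩, rfl⟩)))
      rw [hsingle', hr0] at this
      simp at this
  have hdV : ∀ b, V.valuation (d₀ b) = 1 := by
    intro b
    have h := congrArg (fun y : Γ => ((Additive.toMul y : V.ValueGroupˣ) : V.ValueGroup)) (hγ b)
    change V.valuation (((d b)⁻¹ : Lˣ) : L) = 1 at h
    rwa [hγd, map_inv₀, inv_eq_one] at h
  let dV : Fin n → V := fun b => ⟨d₀ b, (V.valuation_le_one_iff _).1 (hdV b).le⟩
  have hdu : IsUnit (Matrix.diagonal dV) := by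
    rw [Matrix.isUnit_diagonal, Pi.isUnit_iff]
    exact fun b => (V.valuation_eq_one_iff (dV b)).2 (hdV b)
  let G : (Matrix (Fin n) (Fin n) V)ˣ := u * hdu.unit * u'
  letI : Algebra k V := ι.toAlgebra
  let sL : V →ₐ[k] L := { V.subtype with commutes' := fun _ => rfl }
  have hGg : mapU (sL : V →+* L) G = g₀ := Units.ext (by
    show (u.1 * Matrix.diagonal dV * u'.1).map V.subtype = g₀.1
    rw [Matrix.map_mul, Matrix.map_mul, Matrix.diagonal_map (map_zero _), hd]
    rfl)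
  obtain ⟨x, rfl⟩ := hΦ a
  have hx : φ (Φ x) = sL (ev k G x) := by
    rw [ev_apply_map, hGg, hg₀, ← ev_apply_map, show ev k (repMat Φ) = (Φ : GLn n k →ₐ[k] A) from ev_toMat _]
    rfl
  rw [hx]
  exact (ev k G x).2

end Groth.Agent.GIT36.HM
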