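import Groth.Agent.GIT36.HM.Curve
import Groth.Prelude.Def_GLin5

/-!
# The one-parameter subgroup attached to a constant curve
-/

set_option autoImplicit false

noncomputable section

open LaurentPolynomial CoordGrp TensorProduct

namespace Groth.Agent.GIT36.HM

universe u v

variable {n : ℕ} {k : Type u} [Field k]

theorem comulAlgHom_T (m : ℤ) :
    Bialgebra.comulAlgHom k k[T;T⁻¹] (T m) = (T m : k[T;T⁻¹]) ⊗ₜ[k] T m := by
  rw [Bialgebra.comulAlgHom_apply]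
  simp

theorem counitAlgHom_T (m : ℤ) : Bialgebra.counitAlgHom k k[T;T⁻¹] (T m) = 1 := by
  rw [Bialgebra.counitAlgHom_apply]
  simp

theorem comul_dg (r : Fin n → ℤ) :
    mapU (Bialgebra.comulAlgHom k k[T;T⁻¹] : k[T;T⁻¹] →+* k[T;T⁻¹] ⊗[k] k[T;T⁻¹]) (dg r) =
      mapU ((Algebra.TensorProduct.includeLeft : k[T;T⁻¹] →ₐ[k] k[T;T⁻¹] ⊗[k] k[T;T⁻¹]) : k[T;T⁻¹] →+* k[T;T⁻¹] ⊗[k] k[T;T⁻¹]) (dg r) *
        mapU ((Algebra.TensorProduct.includeRight : k[T;T⁻¹] →ₐ[k] k[T;T⁻¹] ⊗[k] k[T;T⁻¹]) : k[T;T⁻¹] →+* k[T;T⁻¹] ⊗[k] k[T;T⁻¹]) (dg r) := by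
  refine Units.ext (Matrix.ext fun i j => ?_)
  simp only [Units.val_mul, mapU_val, dg, Matrix.diagonal_map (map_zero _), Matrix.diagonal_mul_diagonal,
    Matrix.diagonal_apply]
  split_ifs
  · simp [comulAlgHom_T]
  · rfl

theorem counit_dg (r : Fin n → ℤ) :
    mapU (Bialgebra.counitAlgHom k k[T;T⁻¹] : k[T;T⁻¹] →+* k) (dg r) = 1 := by
  refine Units.ext (Matrix.ext fun i j => ?_)
  simp only [mapU_val, dg, Matrix.diagonal_map (map_zero _), Units.val_one, Matrix.diagonal_apply,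
    Matrix.one_apply]
  split_ifs
  · simp [counitAlgHom_T]
  · rfl

theorem mapU_inv {B C : Type*} [CommRing B] [CommRing C] (f : B →+* C) (H : (Matrix (Fin n) (Fin n) B)ˣ) :
    mapU f H⁻¹ = (mapU f H)⁻¹ := map_inv _ _

variable {A : Type u} [CommRing A] [HopfAlgebra k A] (Φ : GLn n k →ₐc[k] A)

/-- **the one-parameter subgroup** `t ↦ H⁻¹ t^r H` -/
theorem exists_lam [IsAlgClosed k] [Algebra.FiniteType k A] (hG : HopfRep.IsLinearlyReductive k A)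
    (hΦ : Function.Surjective Φ) (r : Fin n → ℤ) (H : (Matrix (Fin n) (Fin n) k)ˣ)
    (hH : ∀ f ∈ Inv Φ, ∀ s : kˣ, ev k (dgk r s * H) f = ev k H f) :
    ∃ lam : A →ₐc[k] k[T;T⁻¹],
      mapU ((lam : A →ₐ[k] k[T;T⁻¹]) : A →+* k[T;T⁻¹]) (repMat Φ) = cst H⁻¹ * (dg r)⁻¹ * cst H := by
  set Λ := cst H⁻¹ * (dg r)⁻¹ * cst H with hΛ
  have hker : RingHom.ker (Φ : GLn n k →ₐ[k] A) ≤ RingHom.ker (ev k Λ) := by
    intro x hx
    refine eq_zero_of_evalT _ fun s => ?_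
    rw [ev_apply_map]
    have hs : (dgk r s)⁻¹ = dgk r s⁻¹ := Units.ext (by
      show Matrix.diagonal _ = Matrix.diagonal _
      congr 1
      funext i
      rw [inv_zpow', neg_neg])
    have he : mapU (evalT (k := k) s : k[T;T⁻¹] →+* k) Λ = H⁻¹ * (dgk r s⁻¹ * H) := by
      rw [hΛ, mapU_mul, mapU_mul, mapU_inv, evalT_dg, hs, cst, cst, mapU_algHom, mapU_algHom, mapU_self,
        mapU_self, mul_assoc]
    obtain ⟨g, hg⟩ := exists_mul_eq Φ hG hΦ H (dgk r s⁻¹ * H) fun f hf => (hH f hf s⁻¹).symm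
    rw [he, hg, ← mul_assoc, inv_mul_cancel, one_mul, ← ev_apply_map,
      show ev k (repMat Φ) = (Φ : GLn n k →ₐ[k] A) from ev_toMat _, show (Φ : GLn n k →ₐ[k] A) x = 0 from hx,
      map_zero]
  let l₀ : A →ₐ[k] k[T;T⁻¹] := AlgHom.liftOfSurjective (Φ : GLn n k →ₐ[k] A) hΦ (ev k Λ) hker
  have hl : ∀ x, l₀ (Φ x) = ev k Λ x :=
    DFunLike.congr_fun (AlgHom.liftOfSurjective_comp (Φ : GLn n k →ₐ[k] A) hΦ (ev k Λ) hker)
  have hΛmap : ∀ (B : Type u) [CommRing B] [Algebra k B] (φ : k[T;T⁻¹] →ₐ[k] B),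
      mapU (φ : k[T;T⁻¹] →+* B) Λ =
        mapU (algebraMap k B) H⁻¹ * (mapU (φ : k[T;T⁻¹] →+* B) (dg r))⁻¹ * mapU (algebraMap k B) H := by
    intro B _ _ φ
    rw [hΛ, mapU_mul, mapU_mul, mapU_inv, cst, cst, mapU_algHom, mapU_algHom]
  have hcounit : (Bialgebra.counitAlgHom k k[T;T⁻¹]).comp l₀ = Bialgebra.counitAlgHom k A := by
    refine AlgHom.ext fun a => ?_
    obtain ⟨x, rfl⟩ := hΦ a
    rw [AlgHom.comp_apply, hl, ev_apply_map, hΛmap, counit_dg, inv_one, mul_one, ← mapU_mul, inv_mul_cancel]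
    have : ev k (mapU (algebraMap k k) (1 : (Matrix (Fin n) (Fin n) k)ˣ)) = Bialgebra.counitAlgHom k (GLn n k) :=
      hom_ext fun i j => by
        rw [ev_X, Bialgebra.counitAlgHom_apply]
        show _ = CoalgebraStruct.counit (R := k) (GLn.X i j)
        rw [GLn.counit_X]
        simp [Matrix.one_apply]
    rw [this]
    exact (CoalgHomClass.counit_comp_apply Φ x).symm
  have hcomul : (Algebra.TensorProduct.map l₀ l₀).comp (Bialgebra.comulAlgHom k A) =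
      (Bialgebra.comulAlgHom k k[T;T⁻¹]).comp l₀ := by
    refine AlgHom.ext fun a => ?_
    obtain ⟨x, rfl⟩ := hΦ a
    rw [AlgHom.comp_apply, AlgHom.comp_apply, hl, ev_apply_map (Bialgebra.comulAlgHom k k[T;T⁻¹])]
    have h1 : Algebra.TensorProduct.map l₀ l₀ (Bialgebra.comulAlgHom k A (Φ x)) =
        ev k (mapU ((Algebra.TensorProduct.includeLeft : k[T;T⁻¹] →ₐ[k] k[T;T⁻¹] ⊗[k] k[T;T⁻¹]) : k[T;T⁻¹] →+* k[T;T⁻¹] ⊗[k] k[T;T⁻¹]) Λ *
          mapU ((Algebra.TensorProduct.includeRight : k[T;T⁻¹] →ₐ[k] k[T;T⁻¹] ⊗[k] k[T;T⁻¹]) : k[T;T⁻¹] →+* k[T;T⁻¹] ⊗[k] k[T;T⁻¹]) Λ) x := by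
      rw [ev_mul, AlgHom.comp_apply, ← comp_ev, ← comp_ev, Bialgebra.comulAlgHom_apply,
        Bialgebra.comulAlgHom_apply, ← CoalgHomClass.map_comp_comul_apply Φ x]
      induction Coalgebra.comul (R := k) x using TensorProduct.induction_on with
      | zero => simp
      | tmul p q => simp [hl]
      | add p q hp hq => simp only [map_add, hp, hq]
    rw [h1]
    congr 2
    rw [hΛmap, hΛmap, hΛmap, comul_dg]
    set C := mapU (algebraMap k (k[T;T⁻¹] ⊗[k] k[T;T⁻¹])) H with hC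
    rw [mapU_inv, ← hC]
    set D := mapU ((Algebra.TensorProduct.includeLeft : k[T;T⁻¹] →ₐ[k] k[T;T⁻¹] ⊗[k] k[T;T⁻¹]) : k[T;T⁻¹] →+* k[T;T⁻¹] ⊗[k] k[T;T⁻¹]) (dg r)
    set D' := mapU ((Algebra.TensorProduct.includeRight : k[T;T⁻¹] →ₐ[k] k[T;T⁻¹] ⊗[k] k[T;T⁻¹]) : k[T;T⁻¹] →+* k[T;T⁻¹] ⊗[k] k[T;T⁻¹]) (dg r)
    have hDD : D * D' = D' * D := Units.ext (by
      show D.1 * D'.1 = D'.1 * D.1
      simp only [D, D', mapU_val, dg, Matrix.diagonal_map (map_zero _), Matrix.diagonal_mul_diagonal]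
      congr 1
      funext i
      exact mul_comm _ _)
    rw [hDD]
    group
  refine ⟨BialgHom.ofAlgHom l₀ hcounit hcomul, Units.ext (Matrix.ext fun i j => ?_)⟩
  show l₀ (Φ (GLn.X i j)) = _
  rw [hl, ev_X]

end Groth.Agent.GIT36.HM
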