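import Mathlib
import Groth.Prelude.Def_GLin
import Groth.Prelude.Def_GLin2
import Groth.Prelude.Def_GLin3
import Groth.Prelude.Def_GLin4
import Groth.Agent.Comod33.MatrixRep

/-!
# Matrix points of `GL_n`, translations and invariants of a subgroup
-/

set_option autoImplicit false

noncomputable section

open TensorProduct

namespace Groth.Agent.GIT36.HM

universe u v w

open CoordGrp

variable {n : ℕ} {k : Type u} [CommRing k]

section Ev

variable {B : Type v} [CommRing B] [Algebra k B]

/-- the point of `GL_n` given by an invertible matrix -/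
def ev (k : Type u) [CommRing k] [Algebra k B] (H : (Matrix (Fin n) (Fin n) B)ˣ) : GLn n k →ₐ[k] B :=
  GLn.pt n k H.1 (H⁻¹).1.det (by rw [← Matrix.det_mul, Units.mul_inv, Matrix.det_one])

@[simp] theorem ev_X (H : (Matrix (Fin n) (Fin n) B)ˣ) (i j : Fin n) :
    ev k H (GLn.X i j) = H.1 i j := GLn.pt_X _ _ _ i j

theorem isUnit_genMat : IsUnit (GLn.genMat n k) := by
  rw [Matrix.isUnit_iff_isUnit_det, ← GLn.det_eq]
  exact IsUnit.of_mul_eq_one _ GLn.det_mul_Dinv

/-- the generic point -/
def gen (n : ℕ) (k : Type u) [CommRing k] : (Matrix (Fin n) (Fin n) (GLn n k))ˣ :=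
  isUnit_genMat.unit

@[simp] theorem gen_val : (gen n k).1 = GLn.genMat n k := rfl

/-- points are equal as soon as the entries are -/
theorem hom_ext {C : Type w} [CommRing C] [Algebra k C] {f g : GLn n k →ₐ[k] C}
    (h : ∀ i j, f (GLn.X i j) = g (GLn.X i j)) : f = g := by
  refine GLn.algHom_ext h ?_
  have hd : f GLn.det = g GLn.det := by
    rw [GLn.det_eq, AlgHom.map_det, AlgHom.map_det]
    exact congrArg Matrix.det (Matrix.ext fun i j => h i j)
  have h1 : f GLn.det * f GLn.Dinv = 1 := by rw [← map_mul, GLn.det_mul_Dinv, map_one]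
  have h2 : f GLn.det * g GLn.Dinv = 1 := by rw [hd, ← map_mul, GLn.det_mul_Dinv, map_one]
  calc f GLn.Dinv = f GLn.Dinv * (f GLn.det * g GLn.Dinv) := by rw [h2, mul_one]
    _ = g GLn.Dinv := by rw [← mul_assoc, mul_comm (f GLn.Dinv), h1, one_mul]

theorem ev_gen : ev k (gen n k) = AlgHom.id k (GLn n k) :=
  hom_ext fun i j => by rw [ev_X]; rfl

/-- the matrix of a point -/
def toMat (φ : GLn n k →ₐ[k] B) : (Matrix (Fin n) (Fin n) B)ˣ :=
  Units.map φ.mapMatrix.toMonoidHom (gen n k)

@[simp] theorem toMat_val (φ : GLn n k →ₐ[k] B) (i j : Fin n) : (toMat φ).1 i j = φ (GLn.X i j) := rfl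

theorem ev_toMat (φ : GLn n k →ₐ[k] B) : ev k (toMat φ) = φ :=
  hom_ext fun i j => by rw [ev_X]; rfl

/-- change of coefficients for invertible matrices -/
def mapU {C : Type w} [CommRing C] (f : B →+* C) (H : (Matrix (Fin n) (Fin n) B)ˣ) :
    (Matrix (Fin n) (Fin n) C)ˣ :=
  Units.map f.mapMatrix.toMonoidHom H

@[simp] theorem mapU_val {C : Type w} [CommRing C] (f : B →+* C) (H : (Matrix (Fin n) (Fin n) B)ˣ) :
    (mapU f H).1 = H.1.map f := rfl

theorem mapU_mul {C : Type w} [CommRing C] (f : B →+* C) (H H' : (Matrix (Fin n) (Fin n) B)ˣ) :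
    mapU f (H * H') = mapU f H * mapU f H' := map_mul _ _ _

theorem comp_ev {C : Type w} [CommRing C] [Algebra k C] (f : B →ₐ[k] C) (H : (Matrix (Fin n) (Fin n) B)ˣ) :
    f.comp (ev k H) = ev k (mapU (f : B →+* C) H) :=
  hom_ext fun i j => by simp

theorem ev_apply_map {C : Type w} [CommRing C] [Algebra k C] (f : B →ₐ[k] C)
    (H : (Matrix (Fin n) (Fin n) B)ˣ) (x : GLn n k) : f (ev k H x) = ev k (mapU (f : B →+* C) H) x :=
  DFunLike.congr_fun (comp_ev f H) x

theorem ev_mul (H H' : (Matrix (Fin n) (Fin n) B)ˣ) :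
    ev k (H * H') =
      (Algebra.TensorProduct.lift (ev k H) (ev k H') fun _ _ => Commute.all _ _).comp
        (Bialgebra.comulAlgHom k (GLn n k)) :=
  hom_ext fun i j => by
    rw [ev_X, AlgHom.comp_apply, Bialgebra.comulAlgHom_apply, GLn.comul_X, map_sum, Units.val_mul,
      Matrix.mul_apply]
    simp

end Ev

/-- translation on the left by a point with values in `k` -/
def transl (y : (Matrix (Fin n) (Fin n) k)ˣ) : GLn n k →ₐ[k] GLn n k :=
  ev k (mapU (algebraMap k (GLn n k)) y * gen n k)

theorem ev_transl {B : Type v} [CommRing B] [Algebra k B] (y : (Matrix (Fin n) (Fin n) k)ˣ)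
    (H : (Matrix (Fin n) (Fin n) B)ˣ) (x : GLn n k) :
    ev k H (transl y x) = ev k (mapU (algebraMap k B) y * H) x := by
  rw [transl, ev_apply_map, mapU_mul]
  congr 2
  congr 1
  · exact Units.ext (Matrix.ext fun i j => (ev k H).commutes (y.1 i j))
  · exact Units.ext (Matrix.ext fun i j => ev_X H i j)

theorem transl_transl (y z : (Matrix (Fin n) (Fin n) k)ˣ) (x : GLn n k) :
    transl y (transl z x) = transl (z * y) x := by
  rw [transl, ev_transl, transl, mapU_mul, mul_assoc]

theorem transl_one (x : GLn n k) : transl (1 : (Matrix (Fin n) (Fin n) k)ˣ) x = x := by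
  rw [transl, mapU, map_one, one_mul, ev_gen, AlgHom.id_apply]

section Subgroup

variable {A : Type u} [CommRing A] [Bialgebra k A]

/-- `GL_n` as a space with the right action of the subgroup -/
@[reducible] def coactCG (Φ : GLn n k →ₐc[k] A) : HopfRep.Comod k A (GLn n k) :=
  GLin.comodAlong Φ (HopfRep.Comod.regular k (GLn n k))

variable (Φ : GLn n k →ₐc[k] A)

/-- a function invariant under right translation by the subgroup -/
def IsInv (f : GLn n k) : Prop :=
  TensorProduct.map (LinearMap.id (R := k) (M := GLn n k)) (Φ : GLn n k →ₗ[k] A)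
    (CoalgebraStruct.comul f) = f ⊗ₜ[k] (1 : A)

/-- the matrix of the representation -/
def repMat : (Matrix (Fin n) (Fin n) A)ˣ := toMat (Φ : GLn n k →ₐ[k] A)

theorem lift_comul {B : Type v} [CommRing B] [Algebra k B] (H : (Matrix (Fin n) (Fin n) B)ˣ)
    (g : A →ₐ[k] B) (f : GLn n k) :
    ev k (H * mapU (g : A →+* B) (repMat Φ)) f =
      Algebra.TensorProduct.lift (ev k H) g (fun _ _ => Commute.all _ _)
        (TensorProduct.map (LinearMap.id (R := k) (M := GLn n k)) (Φ : GLn n k →ₗ[k] A)
          (CoalgebraStruct.comul f)) := by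
  rw [ev_mul, ← comp_ev, show ev k (repMat Φ) = (Φ : GLn n k →ₐ[k] A) from ev_toMat _]
  show Algebra.TensorProduct.lift _ _ (fun _ _ => Commute.all _ _) (CoalgebraStruct.comul f) = _
  induction CoalgebraStruct.comul (R := k) f using TensorProduct.induction_on with
  | zero => simp
  | tmul a b => simp
  | add a b ha hb => simp only [map_add, ha, hb]

theorem IsInv.ev_mul {f : GLn n k} (hf : IsInv Φ f) {B : Type v} [CommRing B] [Algebra k B]
    (H : (Matrix (Fin n) (Fin n) B)ˣ) (g : A →ₐ[k] B) :
    ev k (H * mapU (g : A →+* B) (repMat Φ)) f = ev k H f := by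
  rw [lift_comul, hf]
  simp

theorem IsInv.transl {f : GLn n k} (hf : IsInv Φ f) (y : (Matrix (Fin n) (Fin n) k)ˣ) :
    IsInv Φ (transl y f) := by
  have h1 : (Bialgebra.comulAlgHom k (GLn n k)).comp (HM.transl y) =
      (Algebra.TensorProduct.map (HM.transl y) (AlgHom.id k (GLn n k))).comp
        (Bialgebra.comulAlgHom k (GLn n k)) := by
    refine hom_ext fun i j => ?_
    simp only [AlgHom.comp_apply, HM.transl, ev_X, Units.val_mul, Matrix.mul_apply, mapU_val, gen_val,
      Matrix.map_apply, map_sum, map_mul, AlgHom.commutes, Bialgebra.comulAlgHom_apply, GLn.genMat, GLn.comul_X,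
      Algebra.TensorProduct.map_tmul, AlgHom.id_apply]
    simp only [Finset.mul_sum, Algebra.TensorProduct.algebraMap_apply, Algebra.TensorProduct.tmul_mul_tmul, one_mul,
      TensorProduct.sum_tmul]
    exact Finset.sum_comm
  show _ = _
  have h2 := DFunLike.congr_fun h1 f
  simp only [AlgHom.comp_apply, Bialgebra.comulAlgHom_apply] at h2
  rw [h2]
  have h3 : TensorProduct.map (LinearMap.id (R := k) (M := GLn n k)) (Φ : GLn n k →ₗ[k] A)
      (Algebra.TensorProduct.map (HM.transl y) (AlgHom.id k (GLn n k)) (CoalgebraStruct.comul f))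
      = TensorProduct.map (HM.transl y).toLinearMap LinearMap.id
        (TensorProduct.map (LinearMap.id (R := k) (M := GLn n k)) (Φ : GLn n k →ₗ[k] A)
          (CoalgebraStruct.comul f)) := by
    induction CoalgebraStruct.comul (R := k) f using TensorProduct.induction_on with
    | zero => simp
    | tmul a b => simp
    | add a b ha hb => simp only [map_add, ha, hb]
  rw [h3, hf]
  simp

end Subgroup

end Groth.Agent.GIT36.HM
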