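import Groth.Agent.GIT36.HM.Pts
import Groth.Agent.LinRed34.Points
import Groth.Agent.LinRed34.FiniteType

/-!
# The ring of the quotient of `GL_n` by a linearly reductive subgroup
-/

set_option autoImplicit false

noncomputable section

open TensorProduct CoordGrp

namespace Groth.Agent.GIT36.HM

universe u v w

variable {n : ℕ} {k : Type u} [Field k]

theorem finiteType_GLn : Algebra.FiniteType k (GLn n k) := by
  have : Algebra.FiniteType k (GLb n k) :=
    inferInstanceAs (Algebra.FiniteType k (MvPolynomial (GLPoly.Idx n) k))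
  exact Algebra.FiniteType.of_surjective (GLn.mk n k) Ideal.Quotient.mk_surjective

theorem isDomain_GLn : IsDomain (GLn n k) := by
  let P := MvPolynomial (Fin n × Fin n) k
  let M : Matrix (Fin n) (Fin n) P := Matrix.mvPolynomialX (Fin n) (Fin n) k
  have hM : M.det ≠ 0 := Matrix.det_mvPolynomialX_ne_zero (Fin n) k
  let L := Localization.Away M.det
  haveI : IsDomain L := IsLocalization.isDomain_localization (powers_le_nonZeroDivisors_of_noZeroDivisors hM)
  have hU : IsUnit (M.map (algebraMap P L)) := by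
    rw [Matrix.isUnit_iff_isUnit_det, ← RingHom.mapMatrix_apply, ← RingHom.map_det]
    exact IsLocalization.map_units L (⟨M.det, Submonoid.mem_powers _⟩ : Submonoid.powers M.det)
  let γ : GLn n k →ₐ[k] L := ev k hU.unit
  let π : P →ₐ[k] GLn n k := MvPolynomial.aeval fun p : Fin n × Fin n => GLn.X p.1 p.2
  have hπ : IsUnit (π M.det) := by
    rw [AlgHom.map_det]
    have : π.mapMatrix M = GLn.genMat n k := by
      ext i j
      simp [M, π, Matrix.mvPolynomialX, GLn.genMat]
      exact MvPolynomial.aeval_X _ _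
    rw [this, ← GLn.det_eq]
    exact IsUnit.of_mul_eq_one _ GLn.det_mul_Dinv
  let β : L →+* GLn n k := IsLocalization.Away.lift (g := π.toRingHom) M.det hπ
  have hβ : ∀ x, β (algebraMap P L x) = π x := IsLocalization.Away.lift_eq _ hπ
  let β' : L →ₐ[k] GLn n k := { β with
    commutes' := fun c => by
      show β (algebraMap k L c) = _
      rw [IsScalarTower.algebraMap_apply k P L, hβ, AlgHom.commutes] }
  have hid : β'.comp γ = AlgHom.id k _ := hom_ext fun i j => by
    simp only [AlgHom.comp_apply, γ, ev_X, AlgHom.id_apply, IsUnit.unit_spec, Matrix.map_apply]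
    show β (algebraMap P L (M i j)) = _
    rw [hβ]
    simp [M, π, Matrix.mvPolynomialX]
    exact MvPolynomial.aeval_X _ _
  exact Function.Injective.isDomain γ fun a b h => by
    simpa using (DFunLike.congr_fun hid a).symm.trans ((congrArg β' h).trans (DFunLike.congr_fun hid b))

section

variable {A : Type u} [CommRing A] [Bialgebra k A] (Φ : GLn n k →ₐc[k] A)

theorem isCoactAlg_coactCG : @GLin.IsCoactAlg k _ A _ _ (GLn n k) _ _ (coactCG Φ) := by
  refine GLin.isCoactAlg_comodAlong Φ (HopfRep.Comod.regular k (GLn n k)) ?_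
  exact @GLin.IsCoactAlg.mk k _ (GLn n k) _ _ (GLn n k) _ _ (HopfRep.Comod.regular k (GLn n k))
    (Bialgebra.comul_one (R := k) (A := GLn n k)) (fun a b => Bialgebra.comul_mul (R := k) a b)

/-- the invariant functions -/
def Inv : Subalgebra k (GLn n k) :=
  @GLin.invariants k _ A _ _ (GLn n k) _ _ (coactCG Φ) (isCoactAlg_coactCG Φ)

theorem mem_Inv {f : GLn n k} : f ∈ Inv Φ ↔ IsInv Φ f := Iff.rfl

theorem transl_mem {f : GLn n k} (hf : f ∈ Inv Φ) (y : (Matrix (Fin n) (Fin n) k)ˣ) :
    transl y f ∈ Inv Φ :=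
  IsInv.transl Φ hf y

theorem fg_Inv (hG : HopfRep.IsLinearlyReductive k A) : (Inv Φ).FG := by
  letI := coactCG Φ
  haveI := isCoactAlg_coactCG Φ
  haveI := finiteType_GLn (n := n) (k := k)
  exact LinRed34.invariants_fg hG

theorem exists_pt_over [IsAlgClosed k] (hG : HopfRep.IsLinearlyReductive k A) (χ : Inv Φ →ₐ[k] k) :
    ∃ h : (Matrix (Fin n) (Fin n) k)ˣ, ∀ f : Inv Φ, ev k h (f : GLn n k) = χ f := by
  letI := coactCG Φ
  haveI := isCoactAlg_coactCG Φ
  haveI := finiteType_GLn (n := n) (k := k)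
  obtain ⟨x, -, hx⟩ := LinRed34.exists_point_over hG (⊥ : Ideal (GLn n k))
    (by rw [Submodule.restrictScalars_bot]; exact Comod33.isSubcomod_bot) χ
    (fun f hf => by
      rw [Submodule.mem_bot] at hf
      obtain rfl : f = 0 := Subtype.ext hf
      exact map_zero χ)
  exact ⟨toMat x, fun f => by rw [ev_toMat]; exact hx f⟩

variable {Φ}

theorem orbitHom_eq (h : (Matrix (Fin n) (Fin n) k)ˣ) :
    @GLin.orbitHom k _ A _ _ (GLn n k) _ _ (coactCG Φ) (isCoactAlg_coactCG Φ) (ev k h) =
      (Φ : GLn n k →ₐ[k] A).comp (transl h) := by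
  letI := coactCG Φ
  haveI := isCoactAlg_coactCG Φ
  refine hom_ext fun i j => ?_
  show (Algebra.TensorProduct.lid k A) (Algebra.TensorProduct.map (ev k h) (AlgHom.id k A)
    (TensorProduct.map (LinearMap.id (R := k) (M := GLn n k)) (Φ : GLn n k →ₗ[k] A)
      (CoalgebraStruct.comul (GLn.X i j)))) = _
  simp [GLn.comul_X, transl, Matrix.mul_apply, GLn.genMat, Algebra.smul_def, AlgHomClass.commutes]

end

section

variable {A : Type u} [CommRing A] [HopfAlgebra k A] (Φ : GLn n k →ₐc[k] A)

theorem repMat_mul (g g' : A →ₐ[k] k) :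
    mapU (g : A →+* k) (repMat Φ) * mapU (g' : A →+* k) (repMat Φ) =
      mapU ((WithConv.toConv g * WithConv.toConv g').ofConv : A →+* k) (repMat Φ) := by
  refine Units.ext (Matrix.ext fun i j => ?_)
  simp only [Units.val_mul, mapU_val, Matrix.mul_apply, Matrix.map_apply, AlgHom.coe_toRingHom, repMat, toMat_val]
  rw [AlgHom.convMul_apply]

  have hc : CoalgebraStruct.comul (R := k) (Φ (GLn.X i j)) =
      ∑ l, Φ (GLn.X i l) ⊗ₜ[k] Φ (GLn.X l j) := by
    rw [← CoalgHomClass.map_comp_comul_apply Φ (GLn.X i j), GLn.comul_X, map_sum]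
    simp
  erw [hc]
  simp

/-- two matrices with the same invariant values differ by an element of the subgroup -/
theorem exists_mul_eq [IsAlgClosed k] [Algebra.FiniteType k A] (hG : HopfRep.IsLinearlyReductive k A)
    (hΦ : Function.Surjective Φ) (h h' : (Matrix (Fin n) (Fin n) k)ˣ)
    (heq : ∀ f ∈ Inv Φ, ev k h f = ev k h' f) :
    ∃ g : A →ₐ[k] k, h' = h * mapU (g : A →+* k) (repMat Φ) := by
  letI := coactCG Φ
  haveI := isCoactAlg_coactCG Φ
  haveI := finiteType_GLn (n := n) (k := k)
  obtain ⟨z, hz, hz'⟩ := (LinRed34.forall_invariants_eq_iff hG (ev k h) (ev k h')).1 heq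
  have key : ∀ x : (Matrix (Fin n) (Fin n) k)ˣ,
      (∀ f, (∀ g : A →ₐ[k] k, ev k x (HopfRep.Comod.act k A (GLn n k) g f) = 0) → z f = 0) →
      ∃ g : A →ₐ[k] k, toMat z = x * mapU (g : A →+* k) (repMat Φ) := by
    intro x hx
    let φ := (Φ : GLn n k →ₐ[k] A).comp (transl x)
    have hsurj : Function.Surjective φ := by
      intro a
      obtain ⟨b, rfl⟩ := hΦ a
      refine ⟨transl x⁻¹ b, ?_⟩
      show Φ (transl x (transl x⁻¹ b)) = Φ b
      rw [transl_transl, inv_mul_cancel, transl_one]
    have hker : RingHom.ker φ ≤ RingHom.ker z := by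
      intro f hf
      refine hx f fun g => ?_
      rw [LinRed34.act_eq_orbitHom, orbitHom_eq]
      show g (φ f) = 0
      rw [show φ f = 0 from hf, map_zero]
    let g : A →ₐ[k] k := AlgHom.liftOfSurjective φ hsurj z hker
    have hg : g.comp φ = z := AlgHom.liftOfSurjective_comp φ hsurj z hker
    refine ⟨g, Units.ext (Matrix.ext fun i j => ?_)⟩
    rw [toMat_val, ← hg]
    simp [φ, transl, Matrix.mul_apply, GLn.genMat, repMat, AlgHomClass.commutes]
  obtain ⟨g, hg⟩ := key h hz
  obtain ⟨g', hg'⟩ := key h' hz'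
  let G' := WithConv.toConv g'
  refine ⟨(WithConv.toConv g * G'⁻¹).ofConv, ?_⟩
  rw [← repMat_mul, ← mul_assoc, ← hg, hg', mul_assoc, repMat_mul,
    WithConv.toConv_ofConv, mul_inv_cancel]
  refine (mul_one _).symm.trans (congrArg (h' * ·) ?_)
  refine Units.ext (Matrix.ext fun i j => ?_)
  simp only [Units.val_one, mapU_val, Matrix.map_apply, AlgHom.coe_toRingHom, repMat, toMat_val]
  show _ = algebraMap k k (CoalgebraStruct.counit (R := k) (Φ (GLn.X i j)))
  rw [show CoalgebraStruct.counit (R := k) (Φ (GLn.X i j)) = CoalgebraStruct.counit (R := k) (GLn.X i j)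
    from CoalgHomClass.counit_comp_apply Φ _, GLn.counit_X, Matrix.one_apply]
  split_ifs <;> simp

end

end Groth.Agent.GIT36.HM
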