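import Groth.Agent.GIT36.HM.Ring

/-!
# The quotient map of `GL_n` by a linearly reductive subgroup is submersive
-/

set_option autoImplicit false

noncomputable section

open CoordGrp

namespace Groth.Agent.GIT36.HM

universe u v w

section Dual

variable {n : ℕ} {k : Type u} [CommRing k] {B : Type v} [CommRing B]

/-- the matrix `1 + ε X` -/
def epsU (X : Matrix (Fin n) (Fin n) B) : (Matrix (Fin n) (Fin n) (DualNumber B))ˣ where
  val := 1 + Matrix.of fun i j => TrivSqZeroExt.inr (X i j)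
  inv := 1 - Matrix.of fun i j => TrivSqZeroExt.inr (X i j)
  val_inv := by
    rw [← (Commute.one_left _).mul_self_sub_mul_self_eq, one_mul]
    ext i j <;> simp [Matrix.mul_apply]
  inv_val := by
    rw [← (Commute.one_left _).mul_self_sub_mul_self_eq', one_mul]
    ext i j <;> simp [Matrix.mul_apply]

/-- constant matrices -/
def inlU (H : (Matrix (Fin n) (Fin n) B)ˣ) : (Matrix (Fin n) (Fin n) (DualNumber B))ˣ :=
  mapU (TrivSqZeroExt.inlHom B B) H

theorem fst_eps (X : Matrix (Fin n) (Fin n) B) (H : (Matrix (Fin n) (Fin n) B)ˣ) (i j : Fin n) :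
    TrivSqZeroExt.fst (((epsU X).1 * (inlU H).1) i j) = H.1 i j := by
  simp only [epsU, Matrix.add_mul, Matrix.one_mul, Matrix.add_apply]
  simp [inlU, Matrix.mul_apply, TrivSqZeroExt.fst_sum]

theorem snd_eps (X : Matrix (Fin n) (Fin n) B) (H : (Matrix (Fin n) (Fin n) B)ˣ) (i j : Fin n) :
    TrivSqZeroExt.snd (((epsU X).1 * (inlU H).1) i j) = (X * H.1) i j := by
  simp only [epsU, Matrix.add_mul, Matrix.one_mul, Matrix.add_apply]
  simp [inlU, Matrix.mul_apply, TrivSqZeroExt.snd_sum]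

variable (k) in
theorem fst_ev_eps [Algebra k B] (X : Matrix (Fin n) (Fin n) B) (H : (Matrix (Fin n) (Fin n) B)ˣ)
    (f : GLn n k) : TrivSqZeroExt.fst (ev k (epsU X * inlU H) f) = ev k H f := by
  have : (TrivSqZeroExt.fstHom k B B).comp (ev k (epsU X * inlU H)) = ev k H :=
    hom_ext fun i j => by simp [fst_eps]
  exact DFunLike.congr_fun this f

/-- the partial derivatives -/
def pd (c d : Fin n) (f : GLn n k) : GLn n k :=
  TrivSqZeroExt.snd (ev k (epsU (Matrix.single c d (1 : GLn n k) * ((gen n k)⁻¹).1) * inlU (gen n k)) f)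

theorem pd_X (c d i j : Fin n) : pd c d (GLn.X i j : GLn n k) = (Matrix.single c d (1 : GLn n k)) i j := by
  rw [pd, ev_X, Units.val_mul, snd_eps, Matrix.mul_assoc, Units.inv_mul, Matrix.mul_one]

theorem pd_add (c d : Fin n) (f g : GLn n k) : pd c d (f + g) = pd c d f + pd c d g := by
  simp [pd]

theorem pd_algebraMap (c d : Fin n) (a : k) : pd c d (algebraMap k (GLn n k) a) = 0 := by
  rw [pd, AlgHom.commutes, IsScalarTower.algebraMap_apply k (GLn n k) (DualNumber (GLn n k))]
  rfl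

theorem pd_one (c d : Fin n) : pd c d (1 : GLn n k) = 0 := by
  simp [pd]

theorem pd_mul (c d : Fin n) (f g : GLn n k) : pd c d (f * g) = f * pd c d g + g * pd c d f := by
  simp only [pd, map_mul, TrivSqZeroExt.snd_mul, fst_ev_eps, ev_gen, AlgHom.id_apply, smul_eq_mul,
    MulOpposite.smul_eq_mul_unop, MulOpposite.unop_op]
  ring

/-- the chain rule -/
theorem snd_eq [Algebra k B] (ξ : GLn n k →ₐ[k] DualNumber B) (f : GLn n k) :
    TrivSqZeroExt.snd (ξ f) = ∑ p : Fin n × Fin n,
      TrivSqZeroExt.snd (ξ (GLn.X p.1 p.2)) * TrivSqZeroExt.fst (ξ (pd p.1 p.2 f)) := by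
  let φ : GLn n k →ₐ[k] B := (TrivSqZeroExt.fstHom k B B).comp ξ
  let d : GLn n k → B := fun f => ∑ p : Fin n × Fin n,
    TrivSqZeroExt.snd (ξ (GLn.X p.1 p.2)) * φ (pd p.1 p.2 f)
  let ψ : GLn n k →ₐ[k] DualNumber B :=
    { toFun := fun f => TrivSqZeroExt.inl (φ f) + TrivSqZeroExt.inr (d f)
      map_one' := by ext <;> simp [d, pd_one]
      map_mul' := fun f g => by
        ext
        · simp
        · simp only [TrivSqZeroExt.snd_mul, TrivSqZeroExt.fst_add, TrivSqZeroExt.fst_inl,
            TrivSqZeroExt.fst_inr, TrivSqZeroExt.snd_add, TrivSqZeroExt.snd_inl, TrivSqZeroExt.snd_inr,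
            add_zero, zero_add, smul_eq_mul, MulOpposite.smul_eq_mul_unop, MulOpposite.unop_op, d, pd_mul,
            map_add, map_mul, Finset.mul_sum, Finset.sum_mul, ← Finset.sum_add_distrib]
          exact Finset.sum_congr rfl fun p _ => by ring
      map_zero' := by
        have h0 : ∀ c e : Fin n, pd c e (0 : GLn n k) = 0 := fun c e => by simp [pd]
        ext <;> simp [d, h0]
      map_add' := fun f g => by
        ext
        · simp
        · simp [d, pd_add, mul_add, Finset.sum_add_distrib]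
      commutes' := fun a => by
        rw [IsScalarTower.algebraMap_apply k B (DualNumber B)]
        ext <;> simp [d, pd_algebraMap, φ, TrivSqZeroExt.algebraMap_eq_inl] }
  have h : ψ = ξ := hom_ext fun i j => by
    ext
    · simp [ψ, φ]
    · simp only [ψ, AlgHom.coe_mk, RingHom.coe_mk, MonoidHom.coe_mk, OneHom.coe_mk, TrivSqZeroExt.snd_add,
        TrivSqZeroExt.snd_inl, TrivSqZeroExt.snd_inr, zero_add, d, pd_X]
      rw [Finset.sum_eq_single (i, j)]
      · simp [φ]
      · rintro ⟨a, b⟩ _ hne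
        rw [Matrix.single_apply_of_ne]
        · simp
        · rintro ⟨rfl, rfl⟩
          exact hne rfl
      · simp
  rw [← h]
  simp only [ψ, AlgHom.coe_mk, RingHom.coe_mk, MonoidHom.coe_mk, OneHom.coe_mk, TrivSqZeroExt.snd_add,
    TrivSqZeroExt.snd_inl, TrivSqZeroExt.snd_inr, TrivSqZeroExt.fst_add, TrivSqZeroExt.fst_inl,
    TrivSqZeroExt.fst_inr, zero_add, add_zero, d, pd_X]
  refine Finset.sum_congr rfl fun p _ => ?_
  congr 1
  rw [Finset.sum_eq_single p]
  · simp [φ]
  · rintro ⟨a, b⟩ _ hne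
    rw [Matrix.single_apply_of_ne]
    · simp
    · rintro ⟨rfl, rfl⟩
      exact hne rfl
  · simp

/-- the derivative at `h` in the direction `(1 + ε X) h` -/
def Dir [Algebra k B] (h : (Matrix (Fin n) (Fin n) B)ˣ) (X : Matrix (Fin n) (Fin n) B) (f : GLn n k) : B :=
  TrivSqZeroExt.snd (ev k (epsU X * inlU h) f)

theorem Dir_eq [Algebra k B] (h : (Matrix (Fin n) (Fin n) B)ˣ) (X : Matrix (Fin n) (Fin n) B)
    (f : GLn n k) : Dir h X f = ∑ p : Fin n × Fin n, (X * h.1) p.1 p.2 * ev k h (pd p.1 p.2 f) := by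
  rw [Dir, snd_eq]
  simp [snd_eps, fst_ev_eps]

theorem Dir_mul [Algebra k B] (h : (Matrix (Fin n) (Fin n) B)ˣ) (X : Matrix (Fin n) (Fin n) B)
    (f g : GLn n k) : Dir h X (f * g) = ev k h f * Dir h X g + ev k h g * Dir h X f := by
  simp only [Dir, map_mul, TrivSqZeroExt.snd_mul, fst_ev_eps, smul_eq_mul, MulOpposite.smul_eq_mul_unop,
    MulOpposite.unop_op]
  ring

theorem Dir_add [Algebra k B] (h : (Matrix (Fin n) (Fin n) B)ˣ) (X : Matrix (Fin n) (Fin n) B)
    (f g : GLn n k) : Dir h X (f + g) = Dir h X f + Dir h X g := by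
  simp [Dir]

theorem Dir_sum [Algebra k B] (h : (Matrix (Fin n) (Fin n) B)ˣ) {α : Type*} (s : Finset α)
    (X : α → Matrix (Fin n) (Fin n) B) (f : GLn n k) :
    Dir h (∑ a ∈ s, X a) f = ∑ a ∈ s, Dir h (X a) f := by
  simp only [Dir_eq, Matrix.sum_mul, Matrix.sum_apply, Finset.sum_mul]
  exact Finset.sum_comm

theorem Dir_smul [Algebra k B] (h : (Matrix (Fin n) (Fin n) B)ˣ) (c : B)
    (X : Matrix (Fin n) (Fin n) B) (f : GLn n k) : Dir h (c • X) f = c * Dir h X f := by
  simp [Dir_eq, Matrix.smul_mul, Finset.mul_sum, mul_assoc]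

end Dual

variable {n : ℕ} {k : Type u} [Field k]

section Poly

variable {S : Type v} [CommRing S] [Algebra k S] {m : ℕ} (f : Fin m → S)

/-- a derivation on generated elements -/
theorem der_aeval {M : Type w} [CommRing M] [Algebra k M] (φ : S →ₐ[k] M) (δ : S → M)
    (hadd : ∀ a b, δ (a + b) = δ a + δ b) (hc : ∀ c, δ (algebraMap k S c) = 0)
    (hmul : ∀ a b, δ (a * b) = φ a * δ b + φ b * δ a) (p : MvPolynomial (Fin m) k) :
    δ (MvPolynomial.aeval f p) = ∑ i, φ (MvPolynomial.aeval f (MvPolynomial.pderiv i p)) * δ (f i) := by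
  induction p using MvPolynomial.induction_on with
  | C c => simp [hc]
  | add p q hp hq => simp only [map_add, hadd, hp, hq, add_mul, Finset.sum_add_distrib]
  | mul_X p j hp =>
    simp only [map_mul, MvPolynomial.aeval_X, hmul, hp, MvPolynomial.pderiv_mul, map_add, add_mul,
      Finset.sum_add_distrib, Finset.mul_sum]
    rw [add_comm]
    congr 1
    · exact Finset.sum_congr rfl fun i _ => by ring
    · rw [Finset.sum_eq_single j]
      · simp
      · intro i _ hij
        simp [MvPolynomial.pderiv_X, Pi.single_eq_of_ne hij.symm]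
      · simp

end Poly

/-- linear algebra -/
theorem exists_split_exact {K : Type u} [Field K] {a b c : Type} [Fintype a] [Fintype b] [Fintype c]
    [DecidableEq a] [DecidableEq b] [DecidableEq c]
    (J : Matrix b a K) (Q : Matrix c b K)
    (h : ∀ w, Q.mulVec w = 0 → ∃ y, J.mulVec y = w) :
    ∃ (A : Matrix a b K) (B : Matrix b c K), J * A + B * Q = 1 := by
  set q := Matrix.toLin' Q
  set j := Matrix.toLin' J
  obtain ⟨σ, hσ⟩ := LinearMap.exists_rightInverse_of_surjective q.rangeRestrict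
    (LinearMap.range_eq_top.2 q.surjective_rangeRestrict)
  obtain ⟨β, hβ⟩ := LinearMap.exists_extend σ
  have hker : ∀ w : b → K, q ((LinearMap.id - β.comp q : (b → K) →ₗ[K] (b → K)) w) = 0 := by
    intro w
    have h1 : β (q w) = σ (q.rangeRestrict w) := (LinearMap.congr_fun hβ (q.rangeRestrict w))
    have h2 : q (σ (q.rangeRestrict w)) = q w :=
      congrArg Subtype.val (LinearMap.congr_fun hσ (q.rangeRestrict w))
    simp [h1, h2]
  obtain ⟨τ, hτ⟩ := LinearMap.exists_rightInverse_of_surjective j.rangeRestrict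
    (LinearMap.range_eq_top.2 j.surjective_rangeRestrict)
  let π : (b → K) →ₗ[K] LinearMap.range j :=
    LinearMap.codRestrict _ (LinearMap.id - β.comp q : (b → K) →ₗ[K] (b → K)) fun w => by
      obtain ⟨y, hy⟩ := h _ (by simpa [q] using hker w)
      exact ⟨y, by simpa [j, q] using hy⟩
  refine ⟨LinearMap.toMatrix' (τ.comp π), LinearMap.toMatrix' β, ?_⟩
  apply Matrix.toLin'.injective
  rw [map_add, Matrix.toLin'_mul, Matrix.toLin'_mul, Matrix.toLin'_toMatrix', Matrix.toLin'_toMatrix',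
    Matrix.toLin'_one]
  refine LinearMap.ext fun w => ?_
  have h3 : j (τ (π w)) = (LinearMap.id - β.comp q : (b → K) →ₗ[K] (b → K)) w :=
    congrArg Subtype.val (LinearMap.congr_fun hτ (π w))
  simp only [LinearMap.add_apply, LinearMap.comp_apply, LinearMap.id_apply]
  rw [h3]
  simp [q]

variable {A : Type u} [CommRing A] [HopfAlgebra k A] [IsAlgClosed k] [CharZero k] (Φ : GLn n k →ₐc[k] A)

/-- over the function field the kernel of the relations is the image of the differential -/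
theorem exists_preimage_field {m : ℕ} (f : Fin m → Inv Φ)
    (hgen : Function.Surjective (MvPolynomial.aeval f : MvPolynomial (Fin m) k →ₐ[k] Inv Φ))
    (K : Type u) [Field K] [Algebra (GLn n k) K] [IsFractionRing (GLn n k) K]
    (w : Fin m → K)
    (hw : ∀ p : MvPolynomial (Fin m) k, MvPolynomial.aeval f p = 0 → ∑ i, algebraMap (GLn n k) K
      ((MvPolynomial.aeval f (MvPolynomial.pderiv i p) : Inv Φ) : GLn n k) * w i = 0) :
    ∃ y : Fin n × Fin n → K, ∀ i, ∑ p, algebraMap (GLn n k) K (pd p.1 p.2 (f i : GLn n k)) * y p = w i := by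
  letI : Algebra k K := ((algebraMap (GLn n k) K).comp (algebraMap k (GLn n k))).toAlgebra
  haveI : IsScalarTower k (GLn n k) K := IsScalarTower.of_algebraMap_eq fun _ => rfl
  haveI := isDomain_GLn (n := n) (k := k)
  haveI := finiteType_GLn (n := n) (k := k)
  let ι : Inv Φ →ₐ[k] K := (IsScalarTower.toAlgHom k (GLn n k) K).comp (Inv Φ).val
  have hι : Function.Injective ι := (IsFractionRing.injective (GLn n k) K).comp Subtype.val_injective
  let d₀ : MvPolynomial (Fin m) k → K := fun p =>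
    ∑ i, ι (MvPolynomial.aeval f (MvPolynomial.pderiv i p)) * w i
  let δ : Inv Φ → K := fun a => d₀ (Function.surjInv hgen a)
  have hδ : ∀ p, δ (MvPolynomial.aeval f p) = d₀ p := by
    intro p
    have h0 : MvPolynomial.aeval f (Function.surjInv hgen (MvPolynomial.aeval f p) - p) = 0 := by
      rw [map_sub, Function.surjInv_eq hgen, sub_self]
    have h1 := hw _ h0
    simp only [map_sub, Subalgebra.coe_sub, sub_mul, Finset.sum_sub_distrib, sub_eq_zero] at h1
    exact h1
  let ψ₀ : Inv Φ →ₐ[k] (DualNumber K) :=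
    { toFun := fun a => TrivSqZeroExt.inl (ι a) + TrivSqZeroExt.inr (δ a)
      map_one' := by
        rw [← map_one (MvPolynomial.aeval f : MvPolynomial (Fin m) k →ₐ[k] Inv Φ), hδ]
        ext <;> simp [d₀]
      map_mul' := fun a b => by
        obtain ⟨p, rfl⟩ := hgen a
        obtain ⟨q, rfl⟩ := hgen b
        rw [← map_mul, hδ, hδ, hδ]
        ext
        · simp
        · simp only [TrivSqZeroExt.snd_mul, TrivSqZeroExt.fst_add, TrivSqZeroExt.fst_inl,
            TrivSqZeroExt.fst_inr, TrivSqZeroExt.snd_add, TrivSqZeroExt.snd_inl, TrivSqZeroExt.snd_inr,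
            add_zero, zero_add, smul_eq_mul, MulOpposite.smul_eq_mul_unop, MulOpposite.unop_op, d₀,
            MvPolynomial.pderiv_mul, map_add, map_mul, Finset.mul_sum, Finset.sum_mul,
            ← Finset.sum_add_distrib]
          exact Finset.sum_congr rfl fun i _ => by ring
      map_zero' := by
        rw [← map_zero (MvPolynomial.aeval f : MvPolynomial (Fin m) k →ₐ[k] Inv Φ), hδ]
        ext <;> simp [d₀]
      map_add' := fun a b => by
        obtain ⟨p, rfl⟩ := hgen a
        obtain ⟨q, rfl⟩ := hgen b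
        rw [← map_add, hδ, hδ, hδ]
        ext
        · simp
        · simp [d₀, add_mul, Finset.sum_add_distrib]
      commutes' := fun c => by
        rw [← (MvPolynomial.aeval f : MvPolynomial (Fin m) k →ₐ[k] Inv Φ).commutes, hδ, IsScalarTower.algebraMap_apply k K (DualNumber K)]
        ext <;> simp [d₀, MvPolynomial.algebraMap_eq, TrivSqZeroExt.algebraMap_eq_inl] }
  have hψ₀ : ∀ a, TrivSqZeroExt.fst (ψ₀ a) = ι a := fun a => by simp [ψ₀]
  let K' := FractionRing (Inv Φ)
  have hunit : ∀ s : nonZeroDivisors (Inv Φ), IsUnit (ψ₀ (s : Inv Φ)) := fun s => by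
    rw [TrivSqZeroExt.isUnit_iff_isUnit_fst, hψ₀, isUnit_iff_ne_zero, map_ne_zero_iff _ hι]
    exact nonZeroDivisors.ne_zero s.2
  let ψ : K' →ₐ[k] (DualNumber K) := IsLocalization.liftAlgHom (M := nonZeroDivisors (Inv Φ)) (f := ψ₀) hunit
  have hψ : ∀ a, ψ (algebraMap (Inv Φ) K' a) = ψ₀ a := fun a => IsLocalization.lift_eq hunit a
  let j : K' →ₐ[k] K := (TrivSqZeroExt.fstHom k K K).comp ψ
  letI : Algebra K' K := j.toRingHom.toAlgebra
  haveI : IsScalarTower k K' K := IsScalarTower.of_algebraMap_eq fun c => (j.commutes c).symm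
  haveI : CharZero K' := charZero_of_injective_algebraMap (algebraMap k K').injective
  haveI : Algebra.EssFiniteType k K := by
    haveI : Algebra.EssFiniteType (GLn n k) K := Algebra.EssFiniteType.of_isLocalization K (nonZeroDivisors (GLn n k))
    exact Algebra.EssFiniteType.comp k (GLn n k) K
  haveI : Algebra.EssFiniteType K' K := Algebra.EssFiniteType.of_comp k K' K
  haveI : Algebra.FormallySmooth K' K := Algebra.FormallySmooth.of_perfectField
  letI instE : Algebra K' (DualNumber K) := ψ.toRingHom.toAlgebra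
  let g : (DualNumber K) →ₐ[K'] K :=
    { (TrivSqZeroExt.fstHom k K K).toRingHom with commutes' := fun _ => rfl }
  have hg : Function.Surjective g := fun x => ⟨TrivSqZeroExt.inl x, TrivSqZeroExt.fst_inl K x⟩
  have hker : IsNilpotent (RingHom.ker (g : (DualNumber K) →+* K)) := by
    refine ⟨2, ?_⟩
    rw [Submodule.pow_succ, Submodule.pow_one, Ideal.zero_eq_bot, eq_bot_iff, Ideal.mul_le]
    intro r hr s hs
    rw [Submodule.mem_bot]
    have hr' : TrivSqZeroExt.fst r = 0 := hr
    have hs' : TrivSqZeroExt.fst s = 0 := hs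
    ext <;> simp [TrivSqZeroExt.snd_mul, hr', hs']
  let χ : K →ₐ[K'] (DualNumber K) := Algebra.FormallySmooth.liftOfSurjective (AlgHom.id K' K) g hg hker
  have hχ : ∀ x, g (χ x) = x :=
    Algebra.FormallySmooth.liftOfSurjective_apply (AlgHom.id K' K) g hg hker
  have hχι : ∀ a : Inv Φ, χ (ι a) = ψ₀ a := by
    intro a
    have : ι a = algebraMap K' K (algebraMap (Inv Φ) K' a) := by
      show _ = TrivSqZeroExt.fst (ψ (algebraMap _ _ a))
      rw [hψ, hψ₀]
    rw [this, χ.commutes]
    exact hψ a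
  let ξ : GLn n k →ₐ[k] (DualNumber K) :=
    { χ.toRingHom.comp (algebraMap (GLn n k) K) with
      commutes' := fun c => by
        show χ (algebraMap (GLn n k) K (algebraMap k _ c)) = _
        have : algebraMap (GLn n k) K (algebraMap k _ c) = algebraMap K' K (algebraMap k K' c) := by
          rw [← IsScalarTower.algebraMap_apply, ← IsScalarTower.algebraMap_apply]
        rw [this, χ.commutes]
        exact ψ.commutes c }
  refine ⟨fun p => TrivSqZeroExt.snd (ξ (GLn.X p.1 p.2)), fun i => ?_⟩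
  have h2 : TrivSqZeroExt.snd (ξ (f i : GLn n k)) = w i := by
    show TrivSqZeroExt.snd (χ (ι (f i))) = _
    rw [hχι]
    show TrivSqZeroExt.snd (TrivSqZeroExt.inl (ι (f i)) + TrivSqZeroExt.inr (δ (f i))) = _
    rw [show f i = (MvPolynomial.aeval f : MvPolynomial (Fin m) k →ₐ[k] Inv Φ) (MvPolynomial.X i) from
      (MvPolynomial.aeval_X _ _).symm, hδ]
    simp only [TrivSqZeroExt.snd_add, TrivSqZeroExt.snd_inl, TrivSqZeroExt.snd_inr, zero_add, d₀]
    rw [Finset.sum_eq_single i]
    · simp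
    · intro l _ hl
      simp [MvPolynomial.pderiv_X, Pi.single_eq_of_ne hl.symm]
    · simp
  rw [← h2, snd_eq ξ]
  refine Finset.sum_congr rfl fun p _ => ?_
  rw [mul_comm]
  congr 1
  exact (hχ _).symm

/-- **submersion**: derivations of the invariants at a point come from directions at the point -/
theorem exists_dir [Algebra.FiniteType k A] (hG : HopfRep.IsLinearlyReductive k A)
    (h₀ : (Matrix (Fin n) (Fin n) k)ˣ) (δ : Inv Φ → k) (hadd : ∀ a b, δ (a + b) = δ a + δ b)
    (hc : ∀ c, δ (algebraMap k (Inv Φ) c) = 0)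
    (hmul : ∀ a b : Inv Φ, δ (a * b) = ev k h₀ (a : GLn n k) * δ b + ev k h₀ (b : GLn n k) * δ a) :
    ∃ X : Matrix (Fin n) (Fin n) k, ∀ a : Inv Φ, Dir h₀ X (a : GLn n k) = δ a := by
  classical
  haveI := isDomain_GLn (n := n) (k := k)
  haveI := finiteType_GLn (n := n) (k := k)
  haveI : Algebra.FiniteType k (Inv Φ) := (Subalgebra.fg_iff_finiteType _).1 (fg_Inv Φ hG)
  obtain ⟨m, aev, hgen⟩ := Algebra.FiniteType.iff_quotient_mvPolynomial''.1 ‹Algebra.FiniteType k (Inv Φ)›
  let f : Fin m → Inv Φ := fun i => aev (MvPolynomial.X i)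
  have hae : aev = MvPolynomial.aeval f := MvPolynomial.aeval_unique aev
  rw [hae] at hgen
  obtain ⟨L, rel, hrel⟩ : ∃ (L : ℕ) (rel : Fin L → MvPolynomial (Fin m) k),
      RingHom.ker (MvPolynomial.aeval f : MvPolynomial (Fin m) k →ₐ[k] Inv Φ) = Ideal.span (Set.range rel) :=
    let ⟨L, rel, h⟩ := Submodule.fg_iff_exists_fin_generating_family.1
      (IsNoetherian.noetherian (RingHom.ker (MvPolynomial.aeval f : MvPolynomial (Fin m) k →ₐ[k] Inv Φ)))
    ⟨L, rel, h.symm⟩
  have hrel0 : ∀ l, MvPolynomial.aeval f (rel l) = 0 := fun l =>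
    RingHom.mem_ker.1 (hrel ▸ Ideal.subset_span ⟨l, rfl⟩)
  let K := FractionRing (GLn n k)
  let J : Matrix (Fin m) (Fin n × Fin n) (GLn n k) := Matrix.of fun i p => pd p.1 p.2 (f i : GLn n k)
  let Q : Matrix (Fin L) (Fin m) (GLn n k) := Matrix.of fun l i =>
    ((MvPolynomial.aeval f (MvPolynomial.pderiv i (rel l)) : Inv Φ) : GLn n k)
  obtain ⟨A₁, B₁, hAB⟩ := exists_split_exact (J.map (algebraMap _ K)) (Q.map (algebraMap _ K)) fun w hw => by
    refine (exists_preimage_field Φ f hgen K w fun p hp => ?_).imp fun y hy => funext fun i => hy i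
    have hp' : p ∈ Ideal.span (Set.range rel) := hrel ▸ RingHom.mem_ker.2 hp
    obtain ⟨c, rfl⟩ := (Ideal.mem_span_range_iff_exists_fun).1 hp'
    have hl : ∀ l, ∑ i, algebraMap (GLn n k) K (Q l i) * w i = 0 := fun l => congrFun hw l
    simp only [map_sum, MvPolynomial.pderiv_mul, map_add, map_mul, hrel0, mul_zero, zero_add,
      AddSubmonoidClass.coe_finsetSum, Subalgebra.coe_mul, Finset.sum_mul]
    rw [Finset.sum_comm]
    refine Finset.sum_eq_zero fun l _ => ?_
    simp only [mul_assoc, ← Finset.mul_sum]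
    exact mul_eq_zero_of_right _ (hl l)
  obtain ⟨s, hs⟩ := IsLocalization.exist_integer_multiples_of_finite (nonZeroDivisors (GLn n k))
    (fun z : ((Fin n × Fin n) × Fin m) ⊕ (Fin m × Fin L) => Sum.elim (fun q => A₁ q.1 q.2) (fun q => B₁ q.1 q.2) z)
  choose rA hrA using fun (p : Fin n × Fin n) (i : Fin m) => hs (Sum.inl (p, i))
  choose rB hrB using fun (i : Fin m) (l : Fin L) => hs (Sum.inr (i, l))
  have hd0 : (s : GLn n k) ≠ 0 := nonZeroDivisors.ne_zero s.2
  have hid : J * Matrix.of rA + Matrix.of rB * Q = (s : GLn n k) • (1 : Matrix (Fin m) (Fin m) (GLn n k)) := by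
    refine Matrix.map_injective (IsFractionRing.injective (GLn n k) K) ?_
    have hA : (Matrix.of rA).map (algebraMap (GLn n k) K) = algebraMap (GLn n k) K s • A₁ :=
      Matrix.ext fun p i => (hrA p i).trans (Algebra.smul_def _ _)
    have hB : (Matrix.of rB).map (algebraMap (GLn n k) K) = algebraMap (GLn n k) K s • B₁ :=
      Matrix.ext fun i l => (hrB i l).trans (Algebra.smul_def _ _)
    dsimp only
    rw [Matrix.map_add _ (map_add _), Matrix.map_mul, Matrix.map_mul, hA, hB, Matrix.mul_smul, Matrix.smul_mul,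
      ← smul_add, hAB]
    ext i l
    by_cases h : i = l <;> simp [h]
  obtain ⟨x, hx⟩ : ∃ x : GLn n k →ₐ[k] k, x (s : GLn n k) ≠ 0 := by
    haveI := isJacobsonRing_of_finiteType (A := k) (B := GLn n k)
    have : (s : GLn n k) ∉ (⊥ : Ideal (GLn n k)).jacobson := by
      rw [← Ideal.radical_eq_jacobson, (Ideal.isPrime_bot).radical, Submodule.mem_bot]
      exact hd0
    rw [Ideal.jacobson, Submodule.mem_sInf] at this
    push Not at this
    obtain ⟨M, ⟨-, hM⟩, hsM⟩ := this
    obtain ⟨x, hx⟩ := LinRed34.exists_point (k := k) M hM.ne_top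
    refine ⟨x, fun h => hsM ?_⟩
    rw [hM.eq_of_le (RingHom.ker_ne_top x) fun a ha => hx a ha]
    exact h
  let h₁ := toMat x
  have hx' : ev k h₁ (s : GLn n k) ≠ 0 := by rwa [ev_toMat]
  let y := h₁ * h₀⁻¹
  have hty : ∀ a : Inv Φ, transl y (a : GLn n k) ∈ Inv Φ := fun a => transl_mem Φ a.2 y
  let δ₁ : Inv Φ → k := fun a => δ ⟨transl y (a : GLn n k), hty a⟩
  have hev : ∀ a : GLn n k, ev k h₀ (transl y a) = ev k h₁ a := fun a => by
    rw [ev_transl]
    congr 2
    rw [show mapU (algebraMap k k) y = y from Units.ext (Matrix.ext fun _ _ => rfl)]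
    simp [y]
  have hadd₁ : ∀ a b, δ₁ (a + b) = δ₁ a + δ₁ b := fun a b => by
    simp only [δ₁]
    rw [← hadd]
    congr 1
    exact Subtype.ext (map_add _ _ _)
  have hc₁ : ∀ c, δ₁ (algebraMap k (Inv Φ) c) = 0 := fun c => by
    rw [← hc c]
    exact congrArg δ (Subtype.ext ((transl y).commutes c))
  have hmul₁ : ∀ a b : Inv Φ, δ₁ (a * b) =
      ev k h₁ (a : GLn n k) * δ₁ b + ev k h₁ (b : GLn n k) * δ₁ a := fun a b => by
    rw [← hev, ← hev]
    refine (congrArg δ (Subtype.ext (map_mul _ _ _))).trans (hmul ⟨_, hty a⟩ ⟨_, hty b⟩)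
  let φ₁ : Inv Φ →ₐ[k] k := (ev k h₁).comp (Inv Φ).val
  let w : Fin m → k := fun i => δ₁ (f i)
  have hQw : (Q.map (ev k h₁)).mulVec w = 0 := funext fun l => by
    have h := der_aeval f φ₁ δ₁ hadd₁ hc₁ hmul₁ (rel l)
    rw [hrel0, ← map_zero (algebraMap k (Inv Φ)), hc₁] at h
    exact h.symm
  let c₁ := ev k h₁ (s : GLn n k)
  let yv : Fin n × Fin n → k := c₁⁻¹ • ((Matrix.of rA).map (ev k h₁)).mulVec w
  have hJ : (J.map (ev k h₁)).mulVec yv = w := by
    have h := congrArg (fun M => (M.map (ev k h₁)).mulVec w) hid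
    simp only [Matrix.map_add _ (map_add (ev k h₁)), Matrix.map_mul, Matrix.add_mulVec, ← Matrix.mulVec_mulVec,
      hQw, Matrix.mulVec_zero, add_zero] at h
    simp only [yv, Matrix.mulVec_smul, h]
    rw [show ((s : GLn n k) • (1 : Matrix (Fin m) (Fin m) (GLn n k))).map (ev k h₁) = c₁ • 1 from by
      ext i l
      by_cases h : i = l <;> simp [h, c₁], Matrix.smul_mulVec, Matrix.one_mulVec, smul_smul,
      inv_mul_cancel₀ hx', one_smul]
  let X₁ : Matrix (Fin n) (Fin n) k := (Matrix.of fun c d => yv (c, d)) * (h₁⁻¹).1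
  have hX₁ : ∀ a : Inv Φ, Dir h₁ X₁ (a : GLn n k) = δ₁ a := by
    intro a
    obtain ⟨p, rfl⟩ := hgen a
    rw [der_aeval f φ₁ δ₁ hadd₁ hc₁ hmul₁ p,
      der_aeval f φ₁ (fun a : Inv Φ => Dir h₁ X₁ (a : GLn n k)) (fun a b => Dir_add _ _ _ _)
        (fun c => by
          show TrivSqZeroExt.snd (ev k _ (algebraMap k (GLn n k) c)) = 0
          rw [AlgHom.commutes]
          rfl)
        (fun a b => Dir_mul _ _ _ _) p]
    refine Finset.sum_congr rfl fun i _ => ?_
    congr 1
    show Dir h₁ X₁ (f i : GLn n k) = w i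
    rw [← hJ, Dir_eq, show X₁ * h₁.1 = Matrix.of fun c d => yv (c, d) from by
      simp [X₁, Matrix.mul_assoc]]
    exact Finset.sum_congr rfl fun q _ => mul_comm _ _
  refine ⟨(y⁻¹).1 * X₁ * y.1, fun a => ?_⟩
  have hta : transl y⁻¹ (a : GLn n k) ∈ Inv Φ := transl_mem Φ a.2 y⁻¹
  have h := hX₁ ⟨_, hta⟩
  have hback : δ₁ ⟨_, hta⟩ = δ a := congrArg δ (Subtype.ext (by
    show transl y (transl y⁻¹ (a : GLn n k)) = a
    rw [transl_transl, inv_mul_cancel, transl_one]))
  rw [hback] at h
  rw [← h, Dir, Dir, ev_transl]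
  congr 2
  refine congrArg (ev k) (Units.ext ?_)
  have e1 : (y⁻¹).1 * h₁.1 = h₀.1 := by simp [y, mul_assoc]
  have e2 : y.1 * h₀.1 = h₁.1 := by simp [y, mul_assoc]
  simp only [Units.val_mul]
  refine Matrix.ext fun i j => TrivSqZeroExt.ext ?_ ?_
  · rw [fst_eps, Matrix.mul_apply, TrivSqZeroExt.fst_sum]
    refine (congrFun (congrFun e1 i) j).symm.trans ?_
    rw [Matrix.mul_apply]
    simp [fst_eps, TrivSqZeroExt.algebraMap_eq_inl]
  · rw [snd_eps]
    have e3 : (y⁻¹).1 * X₁ * y.1 * h₀.1 = (y⁻¹).1 * (X₁ * h₁.1) := by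
      rw [Matrix.mul_assoc, e2, Matrix.mul_assoc]
    rw [e3, Matrix.mul_apply, Matrix.mul_apply, TrivSqZeroExt.snd_sum]
    refine Finset.sum_congr rfl fun l _ => ?_
    simp [snd_eps, TrivSqZeroExt.algebraMap_eq_inl]

end Groth.Agent.GIT36.HM
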