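import Groth.Agent.GIT36.HM.OneParam
import Groth.Agent.GIT36.HM.Approx
import Groth.Agent.GIT36.Valuative

/-!
# Weights from a point of the subgroup over a valuation ring
-/

set_option autoImplicit false

noncomputable section

open LaurentPolynomial CoordGrp

namespace Groth.Agent.GIT36.HM

universe u v

variable {n : ℕ} {k : Type u} [Field k]

/-- clearing the determinant -/
theorem exists_num (x : GLn n k) : ∃ (N : ℕ) (P : MvPolynomial (Fin n × Fin n) k),
    x * GLn.det ^ N = MvPolynomial.aeval (fun p : Fin n × Fin n => (GLn.X p.1 p.2 : GLn n k)) P := by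
  let π : MvPolynomial (Fin n × Fin n) k →ₐ[k] GLn n k :=
    MvPolynomial.aeval fun p : Fin n × Fin n => (GLn.X p.1 p.2 : GLn n k)
  change ∃ N P, x * GLn.det ^ N = π P
  have hdet : π (Matrix.mvPolynomialX (Fin n) (Fin n) k).det = GLn.det := by
    rw [AlgHom.map_det, GLn.det_eq]
    congr 1
    ext i j
    exact MvPolynomial.aeval_X _ _
  let z := (Matrix.mvPolynomialX (Fin n) (Fin n) k).det
  obtain ⟨b, rfl⟩ := (Ideal.Quotient.mk_surjective : Function.Surjective (GLn.mk n k)) x
  show ∃ N P, GLn.mk n k (b : MvPolynomial (GLPoly.Idx n) k) * GLn.det ^ N = π P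
  induction (b : MvPolynomial (GLPoly.Idx n) k) using MvPolynomial.induction_on with
  | C c =>
    refine ⟨0, MvPolynomial.C c, ?_⟩
    rw [pow_zero, mul_one]
    exact ((GLn.mk n k).commutes c).trans (π.commutes c).symm
  | add p q hp hq =>
    obtain ⟨N, P, hP⟩ := hp
    obtain ⟨M, Q, hQ⟩ := hq
    refine ⟨N + M, P * z ^ M + Q * z ^ N, ?_⟩
    show (GLn.mk n k p + GLn.mk n k q) * _ = _
    rw [map_add, map_mul, map_mul, map_pow, map_pow, ← hP, ← hQ, hdet]
    ring
  | mul_X p s hp =>
    obtain ⟨N, P, hP⟩ := hp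
    rcases s with ⟨i, j⟩ | ⟨⟩
    · refine ⟨N, P * MvPolynomial.X (i, j), ?_⟩
      show (GLn.mk n k p * GLn.X i j) * _ = _
      rw [map_mul, ← hP, show π (MvPolynomial.X (i, j)) = GLn.X i j from MvPolynomial.aeval_X _ _]
      ring
    · refine ⟨N + 1, P, ?_⟩
      show (GLn.mk n k p * GLn.Dinv) * _ = _
      rw [← hP, pow_succ]
      calc GLn.mk n k p * GLn.Dinv * (GLn.det ^ N * GLn.det)
          = GLn.mk n k p * GLn.det ^ N * (GLn.Dinv * GLn.det) := by ring
        _ = GLn.mk n k p * GLn.det ^ N := by rw [GLn.Dinv_mul_det, mul_one]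

theorem ev_num {B : Type v} [CommRing B] [Algebra k B] {x : GLn n k} {N : ℕ}
    {P : MvPolynomial (Fin n × Fin n) k}
    (h : x * GLn.det ^ N = MvPolynomial.aeval (fun p : Fin n × Fin n => (GLn.X p.1 p.2 : GLn n k)) P)
    (Y : (Matrix (Fin n) (Fin n) B)ˣ) :
    ev k Y x * Y.1.det ^ N = MvPolynomial.aeval (fun p : Fin n × Fin n => Y.1 p.1 p.2) P := by
  have h1 := congrArg (ev k Y) h
  rw [map_mul, map_pow, GLn.det_eq, AlgHom.map_det, ← AlgHom.comp_apply, MvPolynomial.comp_aeval] at h1
  have e : (ev k Y).mapMatrix (GLn.genMat n k) = Y.1 := Matrix.ext fun i j => ev_X Y i j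
  rw [e] at h1
  rw [h1]
  simp

section Val

variable {L : Type u} [Field L] [Algebra k L] (V : ValuationSubring L)
  (hk : ∀ a, algebraMap k L a ∈ V) (res : V →+* k)
  (hres : RingHom.ker res = IsLocalRing.maximalIdeal V) (hresk : ∀ a, res ⟨algebraMap k L a, hk a⟩ = a)

include hres hresk in
/-- a polynomial with integral values at the rational points of the torus has integral coefficients -/
theorem coeff_mem_of_eval [Infinite k] (Q : MvPolynomial (Fin n) L)
    (h : ∀ z : Fin n → k, (∀ a, z a ≠ 0) → MvPolynomial.eval (fun a => algebraMap k L (z a)) Q ∈ V)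
    (e : Fin n →₀ ℕ) : MvPolynomial.coeff e Q ∈ V := by
  classical
  by_contra he
  have hne : Q.support.Nonempty := ⟨e, MvPolynomial.mem_support_iff.2 fun h0 => he (h0 ▸ V.zero_mem)⟩
  obtain ⟨e₀, he₀, hmax⟩ := Q.support.exists_max_image (fun e => V.valuation (MvPolynomial.coeff e Q)) hne
  set c := MvPolynomial.coeff e₀ Q with hc
  have hc0 : c ≠ 0 := MvPolynomial.mem_support_iff.1 he₀
  have hle : ∀ e', MvPolynomial.coeff e' Q / c ∈ V := by
    intro e'
    by_cases h' : e' ∈ Q.support
    · rw [← V.valuation_le_one_iff, map_div₀]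
      exact div_le_one_of_le₀ (hmax e' h') zero_le
    · rw [MvPolynomial.notMem_support_iff.1 h', zero_div]
      exact V.zero_mem
  have hcgt : c ∉ V := by
    intro hcV
    apply he
    rw [← div_mul_cancel₀ (MvPolynomial.coeff e Q) hc0]
    exact mul_mem (hle e) hcV
  let ι : k →+* V := (algebraMap k L).codRestrict V.toSubring hk
  let q : MvPolynomial (Fin n) V := ∑ e' ∈ Q.support, MvPolynomial.monomial e' (⟨_, hle e'⟩ : V)
  have hqL : MvPolynomial.map V.subtype q = MvPolynomial.C c⁻¹ * Q := by
    conv_rhs => rw [Q.as_sum, Finset.mul_sum]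
    simp only [q, map_sum, MvPolynomial.map_monomial, MvPolynomial.C_mul_monomial]
    refine Finset.sum_congr rfl fun e' _ => ?_
    congr 1
    exact div_eq_inv_mul _ _
  have hq0 : MvPolynomial.map res q ≠ 0 := by
    intro h0
    have h1 := congrArg (MvPolynomial.coeff e₀) h0
    rw [MvPolynomial.coeff_map, MvPolynomial.coeff_zero] at h1
    have h2 : MvPolynomial.coeff e₀ q = 1 := by
      apply Subtype.ext
      have h3 := congrArg (MvPolynomial.coeff e₀) hqL
      rw [MvPolynomial.coeff_map, MvPolynomial.coeff_C_mul] at h3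
      exact h3.trans (inv_mul_cancel₀ hc0)
    rw [h2, map_one] at h1
    exact one_ne_zero h1
  obtain ⟨z, hz⟩ : ∃ z : Fin n → k,
      MvPolynomial.eval z (MvPolynomial.map res q * ∏ a, MvPolynomial.X a) ≠ 0 := by
    by_contra hno
    push Not at hno
    refine mul_ne_zero hq0 (show (∏ a : Fin n, (MvPolynomial.X a : MvPolynomial (Fin n) k)) ≠ 0 from
      Finset.prod_ne_zero_iff.2 fun a _ => MvPolynomial.X_ne_zero a) ?_
    exact MvPolynomial.funext fun z => by rw [hno z, map_zero]
  rw [map_mul, map_prod, mul_ne_zero_iff, Finset.prod_ne_zero_iff] at hz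
  have hz' : ∀ a, z a ≠ 0 := fun a => by simpa using hz.2 a (Finset.mem_univ a)
  let zV : Fin n → V := fun a => ι (z a)
  have hu : IsUnit (MvPolynomial.eval zV q) := by
    have hr : res (MvPolynomial.eval zV q) ≠ 0 := by
      have hzr : res ∘ zV = z := funext fun a => hresk _
      rw [MvPolynomial.eval, MvPolynomial.coe_eval₂Hom, MvPolynomial.eval₂_comp_left, hzr,
        RingHom.comp_id, ← MvPolynomial.eval_map]
      exact hz.1
    by_contra hnu
    exact hr (RingHom.mem_ker.1 (hres ▸ hnu))
  obtain ⟨b, hb⟩ := hu.exists_left_inv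
  refine hcgt ?_
  have hLV : (MvPolynomial.eval zV q : L) = c⁻¹ * MvPolynomial.eval (fun a => algebraMap k L (z a)) Q := by
    show V.subtype _ = _
    rw [MvPolynomial.eval, MvPolynomial.coe_eval₂Hom, MvPolynomial.eval₂_comp_left, RingHom.comp_id,
      ← MvPolynomial.eval_map, hqL, map_mul, MvPolynomial.eval_C]
    rfl
  have hb' : (b : L) * (c⁻¹ * MvPolynomial.eval (fun a => algebraMap k L (z a)) Q) = 1 := by
    rw [← hLV]
    exact congrArg Subtype.val hb
  have : c = (b : L) * MvPolynomial.eval (fun a => algebraMap k L (z a)) Q := by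
    field_simp at hb'
    linear_combination -hb'
  rw [this]
  exact mul_mem b.2 (h z hz')

variable {A : Type u} [CommRing A] [HopfAlgebra k A] (Φ : GLn n k →ₐc[k] A)

include hres hresk in
/-- the conditions on the weights for one invariant function -/
theorem exists_conditions [Infinite k] (φ : A →ₐ[k] L) (u u' : (Matrix (Fin n) (Fin n) V)ˣ) (d : Fin n → Lˣ)
    (hd : (mapU (φ : A →+* L) (repMat Φ)).1 =
      u.1.map V.subtype * Matrix.diagonal (fun a => (d a : L)) * u'.1.map V.subtype)
    (f : GLn n k) (hf : f ∈ Inv Φ) :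
    ∃ S : Finset (Fin n → ℤ),
      (∀ x ∈ S, 1 ≤ V.valuation ((∏ a, (d a)⁻¹ ^ x a : Lˣ) : L)) ∧
      ∀ r : Fin n → ℤ, (∀ x ∈ S, 0 ≤ ∑ a, x a * r a) →
        ∀ i : ℤ, i < 0 → (curve r (mapU res u)⁻¹ f).coeff i = 0 := by
  classical
  obtain ⟨N, P, hP⟩ := exists_num f
  let ι : k →+* V := (algebraMap k L).codRestrict V.toSubring hk
  letI : Algebra k V := ι.toAlgebra
  let sL : V →ₐ[k] L := { V.subtype with commutes' := fun _ => rfl }
  let sk : V →ₐ[k] k := { res with commutes' := fun a => hresk a }
  let U := u⁻¹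
  let QV : MvPolynomial (Fin n) V :=
    MvPolynomial.aeval (fun p : Fin n × Fin n => MvPolynomial.X p.1 * MvPolynomial.C (U.1 p.1 p.2)) P
  have hQV : ∀ (B : Type u) [CommRing B] [Algebra k B] (s : V →ₐ[k] B) (z : Fin n → B),
      MvPolynomial.eval z (MvPolynomial.map (s : V →+* B) QV) =
        MvPolynomial.aeval (fun p : Fin n × Fin n => z p.1 * s (U.1 p.1 p.2)) P := by
    intro B _ _ s z
    let θ : MvPolynomial (Fin n) V →ₐ[k] B :=
      { (MvPolynomial.eval z).comp (MvPolynomial.map (s : V →+* B)) with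
        commutes' := fun a => by
          show MvPolynomial.eval z (MvPolynomial.map (s : V →+* B) (MvPolynomial.C (algebraMap k V a))) = _
          rw [MvPolynomial.map_C, MvPolynomial.eval_C]
          exact s.commutes a }
    show θ (MvPolynomial.aeval _ P) = _
    rw [← AlgHom.comp_apply, MvPolynomial.comp_aeval]
    congr 2
    funext p
    simp [θ]
  let S : Finset (Fin n → ℤ) := (QV.support.filter fun e => res (MvPolynomial.coeff e QV) ≠ 0).image
    fun e => fun a => (N : ℤ) - e a
  refine ⟨S, ?_, ?_⟩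
  · intro x hx
    obtain ⟨e, he, rfl⟩ := Finset.mem_image.1 hx
    rw [Finset.mem_filter] at he
    let E : Fin n → L := fun a => ((d a)⁻¹ : Lˣ)
    let κ : L := ((∏ a, E a) ^ N)⁻¹
    let QL : MvPolynomial (Fin n) L :=
      ∑ e' ∈ QV.support, MvPolynomial.monomial e' (κ * ((MvPolynomial.coeff e' QV : V) : L) * ∏ a, E a ^ e' a)
    have hQL : ∀ z : Fin n → L, MvPolynomial.eval z QL =
        κ * MvPolynomial.eval (fun a => E a * z a) (MvPolynomial.map V.subtype QV) := by
      intro z
      conv_rhs => rw [QV.as_sum]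
      simp only [QL, map_sum, Finset.mul_sum, MvPolynomial.map_monomial, MvPolynomial.eval_monomial]
      simp only [Finsupp.prod_fintype _ _ (fun i => pow_zero _)]
      simp only [mul_pow, Finset.prod_mul_distrib]
      refine Finset.sum_congr rfl fun e' _ => ?_
      show _ * _ = κ * (((MvPolynomial.coeff e' QV : V) : L) * _)
      ring
    have hval : ∀ z : Fin n → k, (∀ a, z a ≠ 0) →
        MvPolynomial.eval (fun a => algebraMap k L (z a)) QL ∈ V := by
      intro z hz
      let zU : (Matrix (Fin n) (Fin n) k)ˣ :=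
        ⟨Matrix.diagonal z, Matrix.diagonal fun a => (z a)⁻¹,
          by rw [Matrix.diagonal_mul_diagonal, ← Matrix.diagonal_one]; congr 1; funext a; exact mul_inv_cancel₀ (hz a),
          by rw [Matrix.diagonal_mul_diagonal, ← Matrix.diagonal_one]; congr 1; funext a; exact inv_mul_cancel₀ (hz a)⟩
      let g₀ := mapU (φ : A →+* L) (repMat Φ)
      let Y : (Matrix (Fin n) (Fin n) L)ˣ := mapU (algebraMap k L) zU * mapU V.subtype u' * g₀⁻¹
      have hY : ev k Y f ∈ V := by
        have h1 : ev k (Y * g₀) f = ev k Y f := IsInv.ev_mul Φ hf Y φ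
        rw [← h1, inv_mul_cancel_right,
          show mapU (algebraMap k L) zU * mapU V.subtype u' =
            mapU (sL : V →+* L) (mapU (algebraMap k V) zU * u') from by rw [mapU_mul, mapU_algHom]; rfl,
          ← ev_apply_map]
        exact (ev k (mapU (algebraMap k V) zU * u') f).2
      let dU : (Matrix (Fin n) (Fin n) L)ˣ :=
        ⟨Matrix.diagonal fun a => (d a : L), Matrix.diagonal E,
          by rw [Matrix.diagonal_mul_diagonal, ← Matrix.diagonal_one]; congr 1; funext a; exact (d a).mul_inv,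
          by rw [Matrix.diagonal_mul_diagonal, ← Matrix.diagonal_one]; congr 1; funext a; exact (d a).inv_mul⟩
      have hg₀ : g₀ = mapU V.subtype u * dU * mapU V.subtype u' := Units.ext hd
      have hYv : Y = mapU (algebraMap k L) zU * dU⁻¹ * mapU V.subtype U := by
        show _ = _ * _ * mapU V.subtype u⁻¹
        rw [mapU_inv]
        show _ * g₀⁻¹ = _
        rw [hg₀]
        group
      have hYm : Y.1 = Matrix.of fun a b => E a * algebraMap k L (z a) * (U.1 a b : L) := by
        rw [hYv]
        show (Matrix.diagonal z).map (algebraMap k L) * Matrix.diagonal E * U.1.map V.subtype = _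
        rw [Matrix.diagonal_map (map_zero _), Matrix.diagonal_mul_diagonal]
        ext a b
        rw [Matrix.diagonal_mul]
        simp [mul_comm]
      have h2 := ev_num hP Y
      rw [hQL]
      have h3 : MvPolynomial.eval (fun a => E a * algebraMap k L (z a)) (MvPolynomial.map V.subtype QV) =
          ev k Y f * Y.1.det ^ N := by
        rw [h2, show V.subtype = (sL : V →+* L) from rfl, hQV L sL, hYm]
        rfl
      rw [h3]
      have hdet : Y.1.det = algebraMap k L (∏ a, z a) * (∏ a, E a) * (U.1.det : L) := by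
        rw [hYv, Units.val_mul, Units.val_mul, Matrix.det_mul, Matrix.det_mul]
        show ((Matrix.diagonal z).map (algebraMap k L)).det * (Matrix.diagonal E).det * (U.1.map V.subtype).det = _
        rw [← RingHom.mapMatrix_apply (V.subtype), ← RingHom.map_det, Matrix.det_diagonal,
          ← RingHom.mapMatrix_apply, ← RingHom.map_det, Matrix.det_diagonal]
        rfl
      have hE : (∏ a, E a) ≠ 0 := Finset.prod_ne_zero_iff.2 fun a _ => ((d a)⁻¹).ne_zero
      have h4 : κ * (ev k Y f * Y.1.det ^ N) =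
          ev k Y f * (algebraMap k L (∏ a, z a) * (U.1.det : L)) ^ N := by
        rw [hdet, mul_pow, mul_pow, mul_pow]
        show ((∏ a, E a) ^ N)⁻¹ * _ = _
        field_simp
      rw [h4]
      exact mul_mem hY (pow_mem (mul_mem (hk _) U.1.det.2) N)
    have hcoeff := coeff_mem_of_eval V hk res hres hresk QL hval e
    simp only [QL, MvPolynomial.coeff_sum, MvPolynomial.coeff_monomial, Finset.sum_ite_eq', he.1, if_true]
      at hcoeff
    have hcu : IsUnit (MvPolynomial.coeff e QV) := by
      by_contra hnu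
      exact he.2 (RingHom.mem_ker.1 (hres ▸ hnu))
    rw [← V.valuation_le_one_iff, map_mul, map_mul,
      show V.valuation ((MvPolynomial.coeff e QV : V) : L) = 1 from (V.valuation_eq_one_iff _).1 hcu,
      mul_one] at hcoeff
    have hx : ((∏ a, (d a)⁻¹ ^ ((N : ℤ) - e a) : Lˣ) : L) = (∏ a, E a) ^ N / ∏ a, E a ^ e a := by
      rw [Units.coe_prod, ← Finset.prod_pow, ← Finset.prod_div_distrib]
      refine Finset.prod_congr rfl fun a _ => ?_
      rw [zpow_sub, zpow_natCast, zpow_natCast]
      simp [E, div_eq_mul_inv]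
    rw [hx, map_div₀]
    simp only [κ, map_inv₀] at hcoeff
    have hpos : 0 < V.valuation (∏ a, E a ^ e a) := zero_lt_iff.2 ((V.valuation.ne_zero_iff).2
      (Finset.prod_ne_zero_iff.2 fun a _ => pow_ne_zero _ ((d a)⁻¹).ne_zero))
    have hpos' : 0 < V.valuation ((∏ a, E a) ^ N) := zero_lt_iff.2 ((V.valuation.ne_zero_iff).2
      (pow_ne_zero _ (Finset.prod_ne_zero_iff.2 fun a _ => ((d a)⁻¹).ne_zero)))
    rw [one_le_div₀ hpos]
    rwa [inv_mul_le_one₀ hpos'] at hcoeff
  · intro r hr i hi
    let H := (mapU res u)⁻¹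
    have hHV : ∀ a b, H.1 a b = sk (U.1 a b) := fun a b => by
      show ((mapU res u)⁻¹).1 a b = res (u⁻¹.1 a b)
      rw [← mapU_inv]
      rfl
    have h1 := ev_num hP (dg r * cst H)
    have hd' : (dg r * cst H).1.det = algebraMap k k[T;T⁻¹] H.1.det * T (-∑ a, r a) := by
      rw [Units.val_mul, Matrix.det_mul]
      show (Matrix.diagonal fun a => T (-r a)).det * (H.1.map (algebraMap k k[T;T⁻¹])).det = _
      rw [Matrix.det_diagonal, GLn.prod_T, Finset.sum_neg_distrib, ← RingHom.mapMatrix_apply, ← RingHom.map_det,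
        mul_comm]
    have hm : (dg r * cst H).1 = Matrix.of fun a b => T (-r a) * algebraMap k k[T;T⁻¹] (H.1 a b) := by
      refine Matrix.ext fun a b => ?_
      show ((Matrix.diagonal fun a => (T (-r a) : k[T;T⁻¹])) * H.1.map (algebraMap k k[T;T⁻¹]) :
        Matrix (Fin n) (Fin n) k[T;T⁻¹]) a b = _
      rw [Matrix.diagonal_mul]
      rfl
    have h2 : MvPolynomial.aeval (fun p : Fin n × Fin n => (dg r * cst H).1 p.1 p.2) P =
        ∑ e ∈ QV.support, C (res (MvPolynomial.coeff e QV)) * T (-∑ a, r a * e a) := by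
      rw [hm]
      have h3 := hQV k[T;T⁻¹] ((Algebra.ofId k k[T;T⁻¹]).comp sk) (fun a => T (-r a))
      simp only [Matrix.of_apply, hHV]
      refine h3.symm.trans ?_
      conv_lhs => rw [QV.as_sum]
      simp only [map_sum, MvPolynomial.map_monomial, MvPolynomial.eval_monomial]
      simp only [Finsupp.prod_fintype _ _ (fun i => pow_zero _)]
      simp only [T_pow, GLn.prod_T]
      refine Finset.sum_congr rfl fun e _ => ?_
      congr 1
      congr 1
      rw [← Finset.sum_neg_distrib]
      exact Finset.sum_congr rfl fun a _ => by ring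
    have hH0 : H.1.det ≠ 0 := ((Matrix.isUnit_iff_isUnit_det _).1 H.isUnit).ne_zero
    rw [hd', mul_pow, T_pow, h2] at h1
    set c := curve r H f with hc
    have h4 : C (H.1.det ^ N) * c =
        ∑ e ∈ QV.support, C (res (MvPolynomial.coeff e QV)) * T (∑ a, ((N : ℤ) - e a) * r a) := by
      have h5 := congrArg (· * (T ((N : ℤ) * ∑ a, r a) : k[T;T⁻¹])) h1
      simp only [Finset.sum_mul, mul_assoc, ← T_add] at h5
      rw [show (N : ℤ) * -∑ a, r a + (N : ℤ) * ∑ a, r a = 0 by ring, T_zero, mul_one, ← map_pow,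
        ← LaurentPolynomial.C_eq_algebraMap] at h5
      rw [mul_comm]
      refine h5.trans (Finset.sum_congr rfl fun e _ => ?_)
      congr 2
      rw [Finset.mul_sum, ← Finset.sum_neg_distrib, ← Finset.sum_add_distrib]
      exact Finset.sum_congr rfl fun a _ => by ring
    have h6 := congrArg (fun z : k[T;T⁻¹] => z.coeff i) h4
    simp only [AddMonoidAlgebra.coeff_sum, Finsupp.coe_finsetSum, Finset.sum_apply, ← single_eq_C_mul_T,
      AddMonoidAlgebra.coeff_single, LaurentPolynomial.C_eq_algebraMap, ← Algebra.smul_def,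
      AddMonoidAlgebra.coeff_smul, Finsupp.smul_apply, smul_eq_mul] at h6
    rw [Finset.sum_eq_zero] at h6
    · exact (mul_eq_zero.1 h6).resolve_left (pow_ne_zero _ hH0)
    intro e he
    rw [LaurentPolynomial.T, AddMonoidAlgebra.coeff_single, Finsupp.single_apply]
    split_ifs with heq
    · by_contra hne
      have := hr (fun a => (N : ℤ) - e a) (Finset.mem_image.2 ⟨e, Finset.mem_filter.2 ⟨he, fun h => hne (by rw [h, zero_mul])⟩, rfl⟩)
      omega
    · rw [mul_zero]

end Val

end Groth.Agent.GIT36.HM
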